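import Cfsg.Agent.Lib.U3S.EDef

/-! The conjugates of `R` in `R Z`. -/

set_option autoImplicit false
set_option linter.unusedSectionVars false
set_option maxHeartbeats 200000

namespace H55.U3

open Subgroup H69 H25.Sz RR

variable {G : Type*} [Group G] [Finite G] {F K : Type*} [Field F] [Field K] [CharP F 2] [CharP K 2]
  [Big F] [UF F K] [Fintype F] [Fintype K]

namespace Loc.EHy

variable {Λ : Loc G F K} (h : Λ.EHy)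
include h

theorem cent {e c : G} (he : e ∈ Λ.R) (hc : c ∈ Λ.C) : c * e = e * c := by
  by_cases h1 : e = 1
  · rw [h1, mul_one, one_mul]
  · exact mem_centralizer_singleton_iff.1 (h.hC e he h1 ▸ hc)

theorem a1_three : ∃ e ∈ Λ.R, ∃ e' ∈ Λ.R, e ≠ 1 ∧ e' ≠ 1 ∧ e ≠ e' := by
  have := Fintype.ofFinite Λ.R
  obtain ⟨a, b, c, h1, h2, h3⟩ := Fintype.two_lt_card_iff.1 (show 2 < Fintype.card Λ.R by
    have := h.h4; rw [Nat.card_eq_fintype_card] at this; omega)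
  exact ⟨_, (a⁻¹ * b).2, _, (a⁻¹ * c).2, fun k => h1 (inv_mul_eq_one.1 (Subtype.ext k)),
    fun k => h2 (inv_mul_eq_one.1 (Subtype.ext k)), fun k => h3 (mul_left_cancel (Subtype.ext k))⟩

theorem a1_nC {e g : G} (he : e ∈ Λ.R) (h1 : e ≠ 1) (hg : g * e * g⁻¹ ∈ Λ.R) : g ∈ 𝐍(Λ.C) :=
  cj_eq_self_iff.1 (by
    rw [← h.hC e he h1, cj_centralizer_singleton, h.hC _ hg (by simpa using h1), h.hC e he h1])

theorem a1_CN : Λ.C ≤ 𝐍(Λ.R) := fun c hc => mem_norm fun a ha => by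
  rwa [h.cent ha hc, mul_inv_cancel_right]

theorem ti {e g : G} (he : e ∈ Λ.R) (h1 : e ≠ 1) (hg : g * e * g⁻¹ ∈ Λ.R) : g ∈ 𝐍(Λ.R) := by
  have : Fact (Nat.Prime 2) := ⟨Nat.prime_two⟩
  have k : Λ.R ^ᶜ g ≤ Λ.C ⊓ 𝐂(Λ.A) := cj_le_of_mem_normalizer Λ.R_syl.le (le_normalizer_inf le_rfl
    (h.hN.trans (normalizer_le_normalizer_centralizer _)) (h.a1_nC he h1 hg))
  exact mem_normalizer_of_cj_le (Λ.R_syl.le_of_le_normalizer' (isPGroup_cj Λ.R_syl.isP g) k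
    ((k.trans inf_le_left).trans h.a1_CN))

theorem norm_A : 𝐍(Λ.R) ≤ 𝐍(Λ.A) := fun _ hn =>
  let ⟨_, he, _, _, h1, _⟩ := h.a1_three
  h.hN (h.a1_nC he h1 (conj_mem_of_mem_normalizer hn he))

theorem a1_ne : Λ.R ≠ ⊥ := fun k =>
  let ⟨_, he, _, _, h1, _⟩ := h.a1_three
  h1 (mem_bot.1 (k ▸ he))

theorem mem_T {Q : Subgroup G} (hQ : IsPGroup 2 Q) (hT : Λ.T ≤ Q) {x : G} (hx : x ∈ Q)
    (hn : x ∈ 𝐍(Λ.R)) : x ∈ Λ.T := by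
  have : Fact (Nat.Prime 2) := ⟨Nat.prime_two⟩
  obtain ⟨⟨e, he, hc⟩, e1⟩ := ne_bot_iff_exists_ne_one.1 (inf_centralizer_ne_bot Λ.R_syl.isP
    (hQ.to_le (zpowers_le.2 hx)) (zpowers_le.2 hn) h.a1_ne)
  have hxC : x ∈ Λ.C := h.hC e he (fun k => e1 (Subtype.ext k)) ▸
    mem_centralizer_singleton_iff.2 (hc x (mem_zpowers x))
  have := Λ.T_syl.max (Q ⊓ Λ.C) (le_inf hT Λ.T_syl.le) inf_le_right hQ.to_inf_left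
  exact this.le ⟨hx, hxC⟩

theorem ne_z {e : G} (he : e ∈ Λ.R) (h1 : e ≠ 1) (g : G) (b : F) : g * e * g⁻¹ ≠ Λ.p 0 b := by
  intro k
  obtain ⟨x, -, ex⟩ := Λ.exists_sq_P b
  have e2 : g⁻¹ * x * g * (g⁻¹ * x * g) = e := by
    calc _ = g⁻¹ * (x * x) * g := by group
      _ = e := by rw [ex, ← k]; group
  exact h1 (e2.symm.trans (h.hsq _ (h.hC e he h1 ▸ mem_centralizer_singleton_iff.2 (by
    rw [← e2]; group)) (e2 ▸ he)))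

theorem a1_PN : Λ.P ≤ 𝐍(Λ.R) := by
  rintro _ ⟨a, b, rfl⟩; exact h.a1_CN (Λ.A_le (Λ.p_mem a b))

theorem a1_V {x : G} : x ∈ Λ.R ⊔ Λ.Z ↔ ∃ ρ ∈ Λ.R, ∃ b, x = ρ * Λ.p 0 b := by
  rw [mem_sup_of_le_normalizer_left (Λ.Z_le_P.trans h.a1_PN)]
  exact ⟨fun ⟨ρ, hρ, _, ⟨b, e⟩, e'⟩ => ⟨ρ, hρ, b, e ▸ e'⟩, fun ⟨ρ, hρ, b, e⟩ => ⟨ρ, hρ, _, ⟨b, rfl⟩, e⟩⟩

theorem a1_S {x : G} : x ∈ Λ.R ⊔ Λ.P ↔ ∃ ρ ∈ Λ.R, ∃ a b, x = ρ * Λ.p a b := by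
  rw [mem_sup_of_le_normalizer_left h.a1_PN]
  exact ⟨fun ⟨ρ, hρ, _, ⟨a, b, e⟩, e'⟩ => ⟨ρ, hρ, a, b, e ▸ e'⟩,
    fun ⟨ρ, hρ, a, b, e⟩ => ⟨ρ, hρ, _, ⟨a, b, rfl⟩, e⟩⟩

theorem a1_swap {ρ ρ' : G} (h1 : ρ ∈ Λ.R) (h2 : ρ' ∈ Λ.R) (a c : K) (b d : F) :
    ρ * Λ.p a b * (ρ' * Λ.p c d) = ρ' * Λ.p c d * (ρ * Λ.p a b) * Λ.p 0 (B F a c) := by
  have e : ρ * ρ' = ρ' * ρ := h.cent h2 (Λ.R_syl.le h1).1
  calc _ = ρ * (Λ.p a b * ρ') * Λ.p c d := by group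
    _ = ρ * ρ' * (Λ.p a b * Λ.p c d) := by rw [← R_p h2]; group
    _ = ρ' * (ρ * Λ.p c d) * Λ.p a b * Λ.p 0 (B F a c) := by rw [e, Λ.p_swap]; group
    _ = _ := by rw [R_p h1]; group

theorem a1_SV {s v : G} (hs : s ∈ Λ.R ⊔ Λ.P) (hv : v ∈ Λ.R ⊔ Λ.Z) : s * v = v * s := by
  obtain ⟨ρ, hρ, a, b, rfl⟩ := h.a1_S.1 hs
  obtain ⟨ρ', hρ', d, rfl⟩ := h.a1_V.1 hv
  rw [h.a1_swap hρ hρ', B_zero_right, Λ.p_zero, mul_one]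

theorem a1_uq {ρ ρ' : G} (h1 : ρ ∈ Λ.R) (h2 : ρ' ∈ Λ.R) {b d : F} (e : ρ * Λ.p 0 b = ρ' * Λ.p 0 d) :
    ρ = ρ' ∧ b = d := by
  obtain rfl : ρ = ρ' := by
    by_contra n
    refine h.ne_z (mul_mem (inv_mem h2) h1) (fun k => n (inv_mul_eq_one.1 k).symm) 1 (d + b) ?_
    rw [← Λ.z_mul, ← Λ.z_inv b, one_mul, inv_one, mul_one, eq_mul_inv_iff_mul_eq, mul_assoc, e,
      inv_mul_cancel_left]
  exact ⟨rfl, Λ.z_inj (mul_left_cancel e)⟩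

theorem a1_split {x : G} (hx : Au Λ x id) (h2 : x * x = 1) : x ∈ Λ.R ⊔ Λ.Z := by
  obtain ⟨ρ, hρ, a, b, rfl⟩ := hx.split
  rw [sq_Q hρ, h.hE ρ hρ, one_mul, Λ.p_eq_one, nm_eq_zero] at h2
  exact h.a1_V.2 ⟨ρ, hρ, b, by rw [h2.2]⟩

theorem a1_cC {i g x : G} (hi : i ∈ Λ.R) (h1 : i ≠ 1) (hx : x * (g * i * g⁻¹) = g * i * g⁻¹ * x) :
    g⁻¹ * x * g ∈ Λ.C := h.hC i hi h1 ▸ mem_centralizer_singleton_iff.2 (by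
  calc g⁻¹ * x * g * i = g⁻¹ * (x * (g * i * g⁻¹)) * g := by group
    _ = _ := by rw [hx]; group)

theorem a1_cR {i g x e : G} (hi : i ∈ Λ.R) (h1 : i ≠ 1) (hx : x * (g * i * g⁻¹) = g * i * g⁻¹ * x)
    (he : e ∈ Λ.R) : g * e * g⁻¹ * x = x * (g * e * g⁻¹) := by
  calc _ = g * (e * (g⁻¹ * x * g)) * g⁻¹ := by group
    _ = _ := by rw [← h.cent he (h.a1_cC hi h1 hx)]; group

theorem a1_sq {e : G} (he : e ∈ Λ.R) (g : G) : g * e * g⁻¹ * (g * e * g⁻¹) = 1 := by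
  rw [conj_mul, h.hE e he, mul_one, mul_inv_cancel]

/-- A conjugate of `R` in `T` lies in `R Z`. -/
theorem a1_one {g : G} (hg : ∀ e ∈ Λ.R, g * e * g⁻¹ ∈ Λ.T) {e : G} (he : e ∈ Λ.R) :
    g * e * g⁻¹ ∈ Λ.R ⊔ Λ.Z := by
  have s : ∀ e ∈ Λ.R, Au Λ (g * e * g⁻¹) id ∨ Au Λ (g * e * g⁻¹) (cj F) := fun e he =>
    au_sq (hg e he) (h.a1_sq he g ▸ au_one Λ)
  obtain ⟨i, hi, i1, hA⟩ : ∃ i ∈ Λ.R, i ≠ 1 ∧ Au Λ (g * i * g⁻¹) id := by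
    obtain ⟨e1, h1, e2, h2, n1, n2, n3⟩ := h.a1_three
    rcases s e1 h1 with s1 | s1
    · exact ⟨e1, h1, n1, s1⟩
    rcases s e2 h2 with s2 | s2
    · exact ⟨e2, h2, n2, s2⟩
    exact ⟨e1 * e2, mul_mem h1 h2, fun k => n3 (mul_right_cancel (k.trans (h.hE e2 h2).symm)),
      by rw [← conj_mul]; exact out_mul s1 s2⟩
  refine h.a1_split ⟨hg e he, fun a d => ⟨d, ?_⟩⟩ (h.a1_sq he g)
  rw [h.a1_cR hi i1 (h.a1_SV (mem_sup_right (Λ.p_mem_P a d)) (h.a1_split hA (h.a1_sq hi g))) he,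
    mul_inv_cancel_right, id]

theorem a1_two {e g : G} (he : e ∈ Λ.R) (h1 : e ≠ 1) (hg : g * e * g⁻¹ ∈ Λ.T) :
    ∃ c ∈ Λ.C, ∀ e' ∈ Λ.R, c * g * e' * (c * g)⁻¹ ∈ Λ.T := by
  have : Fact (Nat.Prime 2) := ⟨Nat.prime_two⟩
  obtain ⟨c, hc, k⟩ := Λ.T_syl.exists_cj_le (isPGroup_cj Λ.R_syl.isP g) fun x hx => by
    obtain ⟨e', he', rfl⟩ := mem_cj'.1 hx
    exact h.hC e he h1 ▸ mem_centralizer_singleton_iff.2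
      (h.a1_cR he h1 (h.cent he (Λ.T_syl.le hg)).symm he')
  exact ⟨c, hc, fun e' he' => k (by rw [H69.cj_cj]; exact cj_mem _ he')⟩

/-- A conjugate in `T` of an element of `R` lies in `R Z`. -/
theorem a1_memV {e g : G} (he : e ∈ Λ.R) (h1 : e ≠ 1) (hg : g * e * g⁻¹ ∈ Λ.T) :
    g * e * g⁻¹ ∈ Λ.R ⊔ Λ.Z := by
  obtain ⟨c, hc, k⟩ := h.a1_two he h1 hg
  obtain ⟨ρ, hρ, b, e1⟩ := h.a1_V.1 (h.a1_one k he)
  have e2 : ρ⁻¹ * (g * e * g⁻¹) = c⁻¹ * Λ.p 0 b * c := by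
    calc _ = ρ⁻¹ * (c⁻¹ * (c * g * e * (c * g)⁻¹) * c) := by group
      _ = _ := by rw [e1, ← mul_assoc c⁻¹, h.cent hρ (inv_mem hc)]; group
  obtain ⟨a, d, e3⟩ := Λ.syl (Λ.T ⊓ Λ.A) Λ.T_syl.isP.to_inf_left inf_le_right
    (fun a b => ⟨p_T Λ a b, Λ.p_mem a b⟩) (ρ⁻¹ * (g * e * g⁻¹)) (mem_inf.2
      ⟨mul_mem (inv_mem (R_T hρ)) hg, e2 ▸ conj_mem_of_mem_normalizer' (Λ.C_le hc) (Λ.p_mem 0 b)⟩)
  obtain rfl : a = 0 := Λ.p_sq_eq_one (b := d) (by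
    rw [← e3, e2, show c⁻¹ * Λ.p 0 b * c * (c⁻¹ * Λ.p 0 b * c) = c⁻¹ * (Λ.p 0 b * Λ.p 0 b) * c by group,
      Λ.z_sq, mul_one, inv_mul_cancel])
  exact h.a1_V.2 ⟨ρ, hρ, d, by rw [← e3, mul_inv_cancel_left]⟩

theorem a1_ex (hs : IsSimpleGroup G) : ∃ g, g ∉ 𝐍(Λ.R) ∧ ∀ e ∈ Λ.R, g * e * g⁻¹ ∈ Λ.T := by
  have : Fact (Nat.Prime 2) := ⟨Nat.prime_two⟩
  by_contra hn
  have sc : ∀ e ∈ Λ.R, ∀ g, g * e * g⁻¹ ∈ Λ.T → g * e * g⁻¹ ∈ Λ.R := fun e he g hg => by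
    by_cases h1 : e = 1
    · simp [h1]
    obtain ⟨c, hc, k⟩ := h.a1_two he h1 hg
    exact conj_mem_of_mem_normalizer ((mul_mem_cancel_left (h.a1_CN hc)).1
      (by_contra fun n => hn ⟨_, n, k⟩)) he
  have hT : IsSylowIn 2 Λ.T ⊤ := isSylowIn_of_normalizer le_top ⟨le_inf le_top le_normalizer,
    Λ.T_syl.isP, fun Q h1 h2 h3 => le_antisymm (fun x hx => h.mem_T h3 h1 hx (mem_norm fun e he =>
      sc e he x (conj_mem_of_mem_normalizer (h2 hx).2 (R_T he)))) h1⟩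
  obtain ⟨e, he, -, -, h1, -⟩ := h.a1_three
  obtain ⟨_, ⟨a, b, rfl⟩, _, ⟨c, d, rfl⟩, n⟩ := Λ.P_nonab
  obtain ⟨g, -, k⟩ := one_class (L := ⊤) topEquiv.isSimpleGroup hT ⟨_, p_T Λ a b, _, p_T Λ c d, n⟩
    (fun _ hx => R_T hx) h.a1_ne (fun a ha b hb => h.cent hb (Λ.R_syl.le ha).1)
    (fun a ha g _ => sc a ha g) (mem_top e) (mem_top (Λ.p 0 1))
    (H9.orderOf_eq_two_of_mul_self h1 (h.hE e he)) (Λ.z_ord one_ne_zero)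
  exact h.ne_z he h1 g 1 k

theorem a1_h {ρ : G} (hρ : ρ ∈ Λ.R) (k : Fˣ) (b : F) :
    Λ.h k * (ρ * Λ.p 0 b) * (Λ.h k)⁻¹ = ρ * Λ.p 0 ((k : F) ^ 2 * b) := by
  rw [← Λ.h_conj_z, ← mul_assoc, h.cent hρ (Λ.A_le (Λ.h_mem k))]; group

theorem a1_ex' (hs : IsSimpleGroup G) : ∃ g, g ∉ 𝐍(Λ.R) ∧ (∀ e ∈ Λ.R, g * e * g⁻¹ ∈ Λ.R ⊔ Λ.Z) ∧
    ∃ e ∈ Λ.R, ∃ ρ ∈ Λ.R, g * e * g⁻¹ = ρ * Λ.p 0 1 := by
  obtain ⟨g, hn, hg⟩ := h.a1_ex hs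
  obtain ⟨e, he, -, -, h1, -⟩ := h.a1_three
  obtain ⟨ρ, hρ, b, e1⟩ := h.a1_V.1 (h.a1_one hg he)
  have b0 : b ≠ 0 := fun k => hn (h.ti he h1 (by rwa [e1, k, Λ.p_zero, mul_one]))
  obtain ⟨k, hk⟩ := exists_unit_sq (inv_ne_zero b0)
  have c : ∀ x, Λ.h k * g * x * (Λ.h k * g)⁻¹ = Λ.h k * (g * x * g⁻¹) * (Λ.h k)⁻¹ := fun x => by group
  refine ⟨Λ.h k * g, fun n => hn ((mul_mem_cancel_left (h.a1_CN (Λ.A_le (Λ.h_mem k)))).1 n),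
    fun e' he' => ?_, e, he, ρ, hρ, by rw [c, e1, h.a1_h hρ, hk, inv_mul_cancel₀ b0]⟩
  obtain ⟨ρ', hρ', b', e2⟩ := h.a1_V.1 (h.a1_one hg he')
  exact h.a1_V.2 ⟨ρ', hρ', _, by rw [c, e2, h.a1_h hρ']⟩

theorem a1_norm {g0 : G} (hV : ∀ e ∈ Λ.R, g0 * e * g0⁻¹ ∈ Λ.R ⊔ Λ.Z)
    (hall : ∀ ρ ∈ Λ.R, ρ ≠ 1 → ∀ b, ∃ e ∈ Λ.R, e ≠ 1 ∧ ∃ k, ρ * Λ.p 0 b = k * e * k⁻¹) :
    ∃ c ∈ Λ.C, g0 * c ∈ 𝐍(Λ.R ⊔ Λ.P) := by
  have : Fact (Nat.Prime 2) := ⟨Nat.prime_two⟩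
  obtain ⟨e0, he0, -, -, n0, -⟩ := h.a1_three
  obtain ⟨c, hc, k⟩ := Λ.T_syl.exists_le_cj (isPGroup_cj (isPGroup_sup_of_le_normalizer_left
    Λ.R_syl.isP Λ.isP_P h.a1_PN) g0⁻¹) fun x hx => by
      obtain ⟨s, hs, rfl⟩ := mem_cj'.1 hx
      rw [inv_inv]
      exact h.a1_cC he0 n0 (h.a1_SV hs (hV e0 he0))
  refine ⟨c, hc, ?_⟩
  have hT : ∀ s ∈ Λ.R ⊔ Λ.P, (g0 * c)⁻¹ * s * (g0 * c) ∈ Λ.T := fun s hs => by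
    have := mem_cj.1 (k (cj_mem _ hs))
    rwa [show c⁻¹ * (g0⁻¹ * s * g0⁻¹⁻¹) * c = (g0 * c)⁻¹ * s * (g0 * c) by group] at this
  generalize g0 * c = g at hT ⊢
  have mu : ∀ x y : G, g⁻¹ * x * g * (g⁻¹ * y * g) = g⁻¹ * (x * y) * g := fun x y => by group
  have v1 : ∀ ρ ∈ Λ.R, ρ ≠ 1 → ∀ b, g⁻¹ * (ρ * Λ.p 0 b) * g ∈ Λ.R ⊔ Λ.Z := fun ρ hρ n b => by
    obtain ⟨e, he, e1, k, ek⟩ := hall ρ hρ n b
    have := hT _ (h.a1_S.2 ⟨ρ, hρ, 0, b, rfl⟩)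
    rw [ek, show g⁻¹ * (k * e * k⁻¹) * g = g⁻¹ * k * e * (g⁻¹ * k)⁻¹ by group] at this ⊢
    exact h.a1_memV he e1 this
  have nV : g ∈ 𝐍(Λ.R ⊔ Λ.Z) := inv_mem_iff.1 (mem_norm fun v hv => by
    obtain ⟨ρ, hρ, b, rfl⟩ := h.a1_V.1 hv
    rw [inv_inv]
    by_cases n : ρ = 1
    · have := mul_mem (v1 e0 he0 n0 0) (v1 e0 he0 n0 b)
      rwa [mu, Λ.p_zero, mul_one, ← mul_assoc e0, h.hE e0 he0, ← n] at this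
    · exact v1 ρ hρ n b)
  have s : ∀ s ∈ Λ.R ⊔ Λ.P, Au Λ (g⁻¹ * s * g) id ∨ Au Λ (g⁻¹ * s * g) (cj F) := fun s hs => by
    obtain ⟨τ, τF, h1, h2, h3, -⟩ := au_T (hT s hs)
    refine (aut_fixF τ fun b => ?_).imp h2.congr h2.congr
    have := h.a1_SV hs (conj_mem_of_mem_normalizer nV (mem_sup_right (Λ.z_mem_Z b)))
    rw [h1, Λ.z_inj (d := b) ((h3 b).symm.trans ?_)]
    calc _ = g⁻¹ * (s * (g * Λ.p 0 b * g⁻¹)) * s⁻¹ * g := by group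
      _ = _ := by rw [this]; group
  refine inv_mem_iff.1 (mem_norm fun x hx => ?_)
  rw [inv_inv]
  refine h.a1_S.2 ((s x hx).resolve_right fun ho => ?_).split
  have fx : ∀ a b, ∀ ρ ∈ Λ.R, ∀ a' b', g⁻¹ * Λ.p a b * g = ρ * Λ.p a' b' → ∃ y, a' = em K y :=
    fun a b ρ hρ a' b' e => by
      obtain ⟨ρ0, h0, a0, b0, rfl⟩ := h.a1_S.1 hx
      obtain ⟨d, e1⟩ := ho.2 a' b'
      have e2 := h.a1_swap h0 (one_mem _) a0 a b0 b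
      have hv := conj_mem_of_mem_normalizer' nV (mem_sup_right (Λ.z_mem_Z (B F a0 a)))
      have e3 : g⁻¹ * Λ.p 0 (B F a0 a) * g = Λ.p (a' + cj F a') (b' + nm F a' + d + cc F a' (cj F a')) := by
        rw [← Λ.p_mul, ← Λ.p_inv, ← e1]
        have c1 := h.cent hρ (Λ.T_syl.le ho.1)
        have c2 := h.a1_SV (h.a1_S.2 ⟨ρ0, h0, a0, b0, rfl⟩) (mem_sup_right (Λ.z_mem_Z (B F a0 a)))
        rw [one_mul] at e2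
        generalize ρ0 * Λ.p a0 b0 = s at *
        calc _ = (g⁻¹ * Λ.p a b * g)⁻¹ * (g⁻¹ * (Λ.p a b * (s * Λ.p 0 (B F a0 a)) * s⁻¹) * g) := by
              rw [c2]; group
          _ = (g⁻¹ * Λ.p a b * g)⁻¹ * (g⁻¹ * s * g * (g⁻¹ * Λ.p a b * g) * (g⁻¹ * s * g)⁻¹) := by
              rw [← mul_assoc (Λ.p a b), ← e2]; group
          _ = _ := by rw [e, ← mul_assoc (g⁻¹ * s * g), c1]; group
      rw [e3] at hv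
      exact fix (eq_of_add (eq_zero_of_B (F := F) fun c =>
        z_of_swap (h.a1_SV (mem_sup_right (Λ.p_mem_P c 0)) hv).symm)).symm
  have hS : ∀ k : K, ∃ x : F, x ≠ 0 ∧ ∃ b, Au Λ (g⁻¹ * Λ.p (em K x * k) b * g) id := fun k => by
    obtain ⟨w, w0, w1⟩ := exists_w F
    rcases s _ (mem_sup_right (Λ.p_mem_P (em K w * k) 0)) with s1 | s1
    · exact ⟨w, w0, 0, s1⟩
    rcases s _ (mem_sup_right (Λ.p_mem_P (em K (1 : F) * k) 0)) with s2 | s2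
    · exact ⟨1, one_ne_zero, 0, s2⟩
    have := out_mul s1 s2
    rw [mu, Λ.p_mul, ← add_mul, ← map_add] at this
    exact ⟨_, add_one_ne_zero w1, _, this⟩
  obtain ⟨x, x0, b, hx⟩ := hS 1
  obtain ⟨y, y0, d, hy⟩ := hS (om F K)
  obtain ⟨ρ1, r1, a1, b1, e1⟩ := hx.split
  obtain ⟨ρ2, r2, a2, b2, e2⟩ := hy.split
  obtain ⟨x1, rfl⟩ := fx _ _ ρ1 r1 a1 b1 e1
  obtain ⟨x2, rfl⟩ := fx _ _ ρ2 r2 a2 b2 e2
  have := h.a1_swap r1 r2 (em K x1) (em K x2) b1 b2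
  rw [← e1, ← e2, B_em_em, Λ.p_zero, mul_one (M := G), mu, mu, mul_left_inj, mul_right_inj] at this
  have := z_of_swap this
  rw [B_em_left, B_em_right, B_comm, B_one, tr_om, mul_one] at this
  exact mul_ne_zero x0 y0 this

theorem exists_EO (hs : IsSimpleGroup G) : Nonempty (EO Λ) := by
  obtain ⟨g, hn, hV, e1, he1, ρ1, hρ1, k1⟩ := h.a1_ex' hs
  choose α hα β e0 using fun e : Λ.R => h.a1_V.1 (hV e e.2)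
  have mul : ∀ e e' : Λ.R, α (e * e') = α e * α e' ∧ β (e * e') = β e + β e' := fun e e' =>
    h.a1_uq (hα _) (mul_mem (hα e) (hα e')) (by
      rw [← e0, coe_mul, ← conj_mul, e0, e0, ← Λ.z_mul, mul_assoc, ← mul_assoc (Λ.p 0 _), ← R_p (hα e')]
      group)
  have one : α 1 = 1 ∧ β 1 = 0 := h.a1_uq (hα _) (one_mem _) (by rw [← e0, Λ.p_zero]; simp)
  have sq : ∀ e : Λ.R, e * e = 1 := fun e => Subtype.ext (h.hE e e.2)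
  have β0 : ∀ e, β e = 0 → e = 1 := fun e k => by_contra fun n =>
    hn (h.ti e.2 (fun k => n (Subtype.ext k)) (by rw [e0, k, Λ.p_zero, mul_one]; exact hα e))
  have α0 : ∀ e, α e = 1 → e = 1 := fun e k => by_contra fun n =>
    h.ne_z e.2 (fun k => n (Subtype.ext k)) g (β e) (by rw [e0, k, one_mul])
  have βi : Function.Injective β := fun e e' k =>
    mul_right_cancel ((β0 _ (by rw [(mul e e').2, k, add2])).trans (sq e').symm)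
  have αs : ∀ ρ ∈ Λ.R, ∃ e, α e = ρ := fun ρ hρ => by
    obtain ⟨e, k⟩ := Finite.surjective_of_injective (f := fun e : Λ.R => (⟨α e, hα e⟩ : Λ.R))
      (fun e e' k => mul_right_cancel ((α0 _ (by
        rw [(mul e e').1, show α e = α e' from congrArg Subtype.val k, h.hE _ (hα e')])).trans
          (sq e').symm)) ⟨ρ, hρ⟩
    exact ⟨e, congrArg Subtype.val k⟩
  have li := Function.leftInverse_invFun βi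
  have b1 : β ⟨e1, he1⟩ = 1 := (h.a1_uq (hα _) hρ1 ((e0 ⟨e1, he1⟩).symm.trans k1)).2
  obtain ⟨c, hc, hg⟩ := h.a1_norm hV fun ρ hρ n b => by
    by_cases b0 : b = 0
    · exact ⟨ρ, hρ, n, 1, by simp [b0, Λ.p_zero]⟩
    obtain ⟨e, rfl⟩ := αs ρ hρ
    have n' : e ≠ 1 := fun k => n (k ▸ one.1)
    obtain ⟨k, hk⟩ := exists_unit_sq (div_ne_zero b0 (mt (β0 e) n'))
    refine ⟨e, e.2, fun k => n' (Subtype.ext k), Λ.h k * g, ?_⟩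
    rw [← div_mul_cancel₀ b (mt (β0 e) n'), ← hk, ← h.a1_h hρ, ← e0]; group
  refine ⟨⟨⟨⟨⟨Set.range β, ?_⟩, 1, one.2⟩, fun hx => by rwa [CharTwo.neg_eq]⟩,
    fun x => α (Function.invFun β x), g * c, ⟨_, b1⟩, ?_, fun _ _ => hα _, ?_, fun e he => ?_, ?_, hg, ?_⟩⟩
  · rintro _ _ ⟨e, rfl⟩ ⟨e', rfl⟩; exact ⟨_, (mul e e').2⟩
  · obtain ⟨a, ha, b, hb, n1, n2, n3⟩ := h.a1_three
    by_cases k : β ⟨a, ha⟩ = 1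
    · exact ⟨_, ⟨⟨b, hb⟩, rfl⟩, fun k => n2 (congrArg Subtype.val (β0 _ k)),
        fun k' => n3 (congrArg Subtype.val (βi (k.trans k'.symm)))⟩
    · exact ⟨_, ⟨⟨a, ha⟩, rfl⟩, fun k => n1 (congrArg Subtype.val (β0 _ k)), k⟩
  · rintro _ ⟨e, rfl⟩ _ ⟨e', rfl⟩
    rw [← (mul e e').2, li, li, li, (mul e e').1]
  · obtain ⟨e', rfl⟩ := αs e he
    exact ⟨_, ⟨e', rfl⟩, by rw [li]⟩
  · rintro _ ⟨e, rfl⟩ k
    rw [li] at k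
    rw [α0 e k, one.2]
  · rintro _ ⟨e, rfl⟩
    obtain ⟨e', k⟩ := αs e e.2
    refine ⟨_, ⟨e', rfl⟩, ?_⟩
    rw [li, li, k, ← e0, mul_assoc g, h.cent e.2 hc]; group

end Loc.EHy

end H55.U3
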