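import Cfsg.Agent.Lib.U3S.EA2a

/-! The construction of `U`. -/

set_option autoImplicit false
set_option linter.unusedSectionVars false
set_option maxHeartbeats 200000

namespace H55.U3

open Subgroup H69 H25.Sz

variable {G : Type*} [Group G] [Finite G] {F K : Type*} [Field F] [Field K] [CharP F 2] [CharP K 2]
  [Big F] [UF F K] [Fintype F] [Fintype K]

namespace EA2

open RR

variable {Λ : Loc G F K}

/-- The complement `Y`, in coordinates. -/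
structure YD (ω : EO Λ) where
  y : F → G
  κ : F
  y_ε : ∀ b, ∀ x ∈ ω.Φ, y b * ω.ε x = ω.ε x * y b * Λ.p 0 (x * b)
  y_mul : ∀ b b', ∃ d, y b * y b' = y (b + b') * Λ.p 0 d
  y_comm : ∀ b b', y b * y b' = y b' * y b
  y_sq : ∀ b, y b * y b = Λ.p 0 (κ * b)
  y_p : ∀ b a d, y b * Λ.p a d = Λ.p a d * y b
  y_h : ∀ (k : Fˣ) b, ∃ d, Λ.h k * y b * (Λ.h k)⁻¹ = y ((k : F) ^ 2 * b) * Λ.p 0 d
  y_r : ∀ b, Λ.r * y b = y b * Λ.r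
  y_zero : y 0 = 1

/-- The coordinates without the field automorphism. -/
def YD.X0 {ω : EO Λ} (Y : YD ω) (h : Λ.EHy) : EF G F K where
  toFrame := Λ.toFrame
  Φ := ω.Φ
  ε := ω.ε
  y := Y.y
  κ := Y.κ
  f := 1
  σ := 1
  σF := 1
  one_mem := ω.one_mem
  four := ω.four
  ε_mul := ω.ε_mul
  ε_p := fun x hx => R_p (ω.ε_mem x hx)
  ε_h := fun x hx k => (h.cent (ω.ε_mem x hx) (Λ.A_le (Λ.h_mem k))).symm
  ε_r := fun x hx => (h.cent (ω.ε_mem x hx) (Λ.A_le Λ.r_mem)).symm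
  ε_f := fun x _ => by rw [mul_one, one_mul]
  y_ε := Y.y_ε
  y_mul := Y.y_mul
  y_comm := Y.y_comm
  y_sq := Y.y_sq
  y_p := Y.y_p
  y_h := Y.y_h
  y_r := Y.y_r
  y_zero := Y.y_zero
  σ_em := fun _ => rfl
  σ_two := ⟨0, one_pow _⟩
  σ_fix := fun _ _ => rfl
  f_p := fun a b => ⟨b, by rw [one_mul, inv_one, mul_one]; rfl⟩
  f_z := fun b => by rw [one_mul, inv_one, mul_one]; rfl
  f_y := fun b => ⟨0, by rw [one_mul, inv_one, mul_one, Λ.p_zero, mul_one]; rfl⟩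
  f_ker := fun i _ => ⟨0, zero_mem _, by
    have := ω.ε_mul 0 (zero_mem _) 0 (zero_mem _)
    rw [add_zero, mul_eq_left] at this
    rw [one_pow, this]⟩

/-- The action on `V`. -/
def Bt (ω : EO Λ) (u : G) (μ : F) : Prop := ∀ x ∈ ω.Φ, u * ω.ε x * u⁻¹ = ω.ε x * Λ.p 0 (μ * x)

theorem auto_lemmas2 : True := by
  have := @YD.X0.eq_1.{0,0,0}; have := @Bt.eq_1.{0,0,0}
  trivial

variable (h : Λ.EHy) (ω : EO Λ)
include h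

theorem ε_zero : ω.ε 0 = 1 := by
  have := ω.ε_mul 0 (zero_mem _) 0 (zero_mem _)
  rwa [add_zero, mul_eq_left] at this

theorem Bt_of {u n : G} {μ : F} (hu : Bt ω u μ) (hn : n * ω.ε 1 * n⁻¹ = ω.ε 1 * Λ.p 0 μ) : Bt ω n μ := by
  have h1 := hu 1 ω.one_mem
  rw [mul_one, ← hn] at h1
  have hC : u⁻¹ * n ∈ Λ.C := mem_C h (t_mem h ω) (t_ne h ω) (by
    calc u⁻¹ * n * ω.ε 1 = u⁻¹ * (n * ω.ε 1 * n⁻¹) * n := by group
      _ = _ := by rw [← h1]; group)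
  intro x hx
  rw [← hu x hx]
  calc n * ω.ε x * n⁻¹ = u * (u⁻¹ * n * ω.ε x) * n⁻¹ := by group
    _ = _ := by rw [h.cent (ω.ε_mem x hx) hC]; group

theorem Bt_mul {u v : G} {μ ν : F} (hu : Bt ω u μ) (hv : Bt ω v ν)
    (hz : ∀ b, u * Λ.p 0 b * u⁻¹ = Λ.p 0 b) : Bt ω (u * v) (μ + ν) := fun x hx => by
  calc _ = u * (v * ω.ε x * v⁻¹) * u⁻¹ := by group
    _ = u * ω.ε x * u⁻¹ * (u * Λ.p 0 (ν * x) * u⁻¹) := by rw [hv x hx]; group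
    _ = _ := by rw [hu x hx, hz, mul_assoc, Λ.z_mul, add_mul]

theorem Bt_cj {u c : G} {μ m : F} (hu : Bt ω u μ) (hc : c ∈ Λ.C)
    (hz : ∀ b, c * Λ.p 0 b * c⁻¹ = Λ.p 0 (m * b)) : Bt ω (c * u * c⁻¹) (m * μ) := fun x hx => by
  have e := h.cent (ω.ε_mem x hx) hc
  calc _ = c * (u * (c⁻¹ * ω.ε x * c) * u⁻¹) * c⁻¹ := by group
    _ = c * ω.ε x * c⁻¹ * (c * Λ.p 0 (μ * x) * c⁻¹) := by
      rw [mul_assoc c⁻¹, ← e, inv_mul_cancel_left, hu x hx]; group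
    _ = _ := by rw [hz, e, mul_inv_cancel_right, mul_assoc m]

theorem pε_uq {a : K} {b d x x' : F} (hx : x ∈ ω.Φ) (hx' : x' ∈ ω.Φ)
    (e : Λ.p a 0 * (ω.ε x * Λ.p 0 b) = Λ.p a 0 * (ω.ε x' * Λ.p 0 d)) : x = x' := by
  have := (h.a1_uq (ω.ε_mem x hx) (ω.ε_mem x' hx') (mul_left_cancel e)).1
  refine eq_of_add (ω.ε_inj _ (add_mem hx hx') ?_)
  rw [← ω.ε_mul x hx x' hx', this, h.hE _ (ω.ε_mem x' hx')]

theorem exists_YD : ∃ Y : YD ω, 𝐍(Λ.R ⊔ Λ.P) ≤ 𝐍((Y.X0 h).U) := by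
  classical
  obtain ⟨U, h2, h3, h4, h6, inT⟩ := exists_U h ω
  have hz := fun u (hu : u ∈ U) => J_z h (h3 hu)
  have uz : ∀ u ∈ U, ∀ b, u * Λ.p 0 b = Λ.p 0 b * u := fun u hu b =>
    mul_inv_eq_iff_eq_mul.1 (hz u hu b)
  have b1 : ∃ u ∈ U, Bt ω u 1 := by
    obtain ⟨u, hu, e⟩ := h6 1
    obtain ⟨x1, hx1, e1⟩ := ω.g_ε 1 ω.one_mem
    have hn : ω.g⁻¹ * u ∈ 𝐍(Λ.R) := h.ti (t_mem h ω) (t_ne h ω) (by
      rw [show ω.g⁻¹ * u * ω.ε 1 * (ω.g⁻¹ * u)⁻¹ = ω.g⁻¹ * (u * ω.ε 1 * u⁻¹) * ω.g by group, e, ← e1,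
        show ω.g⁻¹ * (ω.g * ω.ε x1 * ω.g⁻¹) * ω.g = ω.ε x1 by group]
      exact ω.ε_mem x1 hx1)
    refine ⟨u, hu, fun x hx => ?_⟩
    obtain ⟨d, ed⟩ := J_e h (h3 hu) (ω.ε_mem x hx)
    obtain ⟨x', hx', e'⟩ := ω.g_ε x hx
    obtain ⟨c, hc⟩ := conj_mem_of_mem_normalizer' (NZ h ω.g_norm) (Λ.z_mem_Z (x + d))
    have k := conj_mem_of_mem_normalizer hn (ω.ε_mem x hx)
    have k2 : ω.g⁻¹ * u * ω.ε x * (ω.g⁻¹ * u)⁻¹ * Λ.p 0 0 = ω.ε x' * Λ.p 0 c := by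
      rw [← hc, Λ.p_zero, mul_one, ← Λ.z_mul]
      calc _ = ω.g⁻¹ * (u * ω.ε x * u⁻¹) * ω.g := by group
        _ = ω.g⁻¹ * (ω.ε x * Λ.p 0 x * (Λ.p 0 x * Λ.p 0 d)) * ω.g := by
          rw [ed, ← mul_assoc (ω.ε x * Λ.p 0 x), mul_assoc (ω.ε x) (Λ.p 0 x), Λ.z_sq, mul_one]
        _ = _ := by rw [← e']; group
    rw [← (h.a1_uq k (ω.ε_mem x' hx') k2).2, Λ.p_zero, mul_assoc, inv_mul_eq_one, eq_comm,
      mul_eq_right, Λ.p_eq_one] at hc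
    rw [ed, one_mul, eq_of_add hc.2]
  have ball : ∀ μ, ∃ u ∈ U, Bt ω u μ := fun μ => by
    by_cases hμ : μ = 0
    · exact ⟨1, one_mem _, fun x _ => by simp [hμ, Λ.p_zero]⟩
    obtain ⟨k, hk⟩ := exists_unit_sq hμ
    obtain ⟨u, hu, e⟩ := b1
    have := Bt_cj h ω e (Λ.A_le (Λ.h_mem k)) (Λ.h_conj_z k)
    rw [mul_one, hk] at this
    exact ⟨_, conj_mem_of_mem_normalizer (h4 (hNS h k)) hu, this⟩
  have zt : ∀ u ∈ U, ∃ μ, Bt ω u μ := fun u hu => by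
    obtain ⟨μ, e⟩ := J_e h (h3 hu) (t_mem h ω)
    obtain ⟨v, -, hv⟩ := ball μ
    exact ⟨μ, Bt_of h ω hv e⟩
  have same : ∀ u ∈ U, ∀ v ∈ U, ∀ μ, Bt ω u μ → Bt ω v μ → u⁻¹ * v ∈ Λ.R ⊔ Λ.P := by
    intro u hu v hv μ e1 e2
    refine inT _ (mul_mem (inv_mem hu) hv) ?_
    calc _ = u⁻¹ * (v * ω.ε 1 * v⁻¹) * v := by group
      _ = _ := by rw [e2 1 ω.one_mem, ← e1 1 ω.one_mem]; group
  have rz : ∀ b, Λ.r * Λ.p 0 b * Λ.r⁻¹ = Λ.p 0 (1 * b) := fun b => by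
    rw [Λ.r_z, mul_inv_cancel_right, one_mul]
  have up : ∀ u ∈ U, ∀ a, ∃ d, u * Λ.p a 0 * u⁻¹ = Λ.p a 0 * Λ.p 0 d := fun u hu => by
    have ex : ∀ a, ∃ x ∈ ω.Φ, ∃ d, u * Λ.p a 0 * u⁻¹ = Λ.p a 0 * (ω.ε x * Λ.p 0 d) := fun a => by
      obtain ⟨v, hv, e⟩ := J_p h (h3 hu) a 0
      obtain ⟨ρ, hρ, d, rfl⟩ := h.a1_V.1 hv
      obtain ⟨x, hx, rfl⟩ := ω.ε_surj ρ hρ
      exact ⟨x, hx, d, e⟩
    choose χ hχ δ e using ex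
    have e' : ∀ a b, u * Λ.p a b * u⁻¹ = Λ.p a 0 * (ω.ε (χ a) * Λ.p 0 (δ a + b)) := fun a b => by
      rw [Λ.p_split a b, ← conj_mul, e, hz u hu, ← Λ.z_mul]; group
    obtain ⟨μ, hμ⟩ := zt u hu
    have hr := Bt_cj h ω hμ (Λ.A_le Λ.r_mem) rz
    rw [one_mul] at hr
    obtain ⟨ρ, hρ, c, d, es⟩ := h.a1_S.1
      (same u hu _ (conj_mem_of_mem_normalizer (h4 (rNS h)) hu) μ hμ hr)
    have h0 := add_zero_of_rot Λ.k0_ne χ (fun a a' => by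
        have k := e' (a + a') (0 + 0 + cc F a a')
        rw [← Λ.p_mul, ← conj_mul, e, e] at k
        refine pε_uq h ω (hχ _) (add_mem (hχ a) (hχ a')) (a := a + a') (b := _)
          (d := cc F a a' + δ a + δ a') (k.symm.trans ?_)
        rw [← ω.ε_mul _ (hχ a) _ (hχ a'), ← Λ.z_mul, ← Λ.z_mul]
        calc _ = Λ.p a 0 * ((ω.ε (χ a) * Λ.p 0 (δ a)) * Λ.p a' 0) * (ω.ε (χ a') * Λ.p 0 (δ a')) := by
              group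
          _ = Λ.p a 0 * Λ.p a' 0 * ω.ε (χ a) * (Λ.p 0 (δ a) * ω.ε (χ a')) * Λ.p 0 (δ a') := by
              rw [← h.a1_SV (pS h a' 0) (h.a1_V.2 ⟨_, ω.ε_mem _ (hχ a), _, rfl⟩)]; group
          _ = Λ.p (a + a') 0 * (Λ.p 0 (cc F a a') * (ω.ε (χ a) * ω.ε (χ a'))) * Λ.p 0 (δ a) *
              Λ.p 0 (δ a') := by
              rw [Λ.p_mul, add_zero, zero_add, Λ.p_split, ← R_p (ω.ε_mem _ (hχ a'))]; group
          _ = _ := by rw [← R_p (mul_mem (ω.ε_mem _ (hχ a)) (ω.ε_mem _ (hχ a')))]; group)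
      add2 (fun a => by
        have k1 : Λ.r * u * Λ.r⁻¹ * Λ.p (Λ.k0 * a) 0 * (Λ.r * u * Λ.r⁻¹)⁻¹ =
            Λ.p (Λ.k0 * a) 0 * (ω.ε (χ a) * Λ.p 0 (δ a)) := by
          rw [← Λ.r_conj]
          calc _ = Λ.r * (u * Λ.p a 0 * u⁻¹) * Λ.r⁻¹ := by group
            _ = Λ.r * Λ.p a 0 * Λ.r⁻¹ * ((Λ.r * ω.ε (χ a) * Λ.r⁻¹) * (Λ.r * Λ.p 0 (δ a) * Λ.r⁻¹)) := by
              rw [e]; group
            _ = _ := by rw [rz, one_mul, h.cent (ω.ε_mem _ (hχ a)) (Λ.A_le Λ.r_mem), mul_inv_cancel_right]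
        have k2 : Λ.r * u * Λ.r⁻¹ = u * (ρ * Λ.p c d) := by rw [← es]; group
        rw [k2, show u * (ρ * Λ.p c d) * Λ.p (Λ.k0 * a) 0 * (u * (ρ * Λ.p c d))⁻¹ =
          u * (ρ * (Λ.p c d * Λ.p (Λ.k0 * a) 0 * (Λ.p c d)⁻¹) * ρ⁻¹) * u⁻¹ by group, Λ.p_conj, R_p hρ,
          mul_inv_cancel_right, e'] at k1
        exact pε_uq h ω (hχ _) (hχ _) k1)
    intro a
    exact ⟨δ a, by rw [e, h0, ε_zero h, one_mul]⟩
  have usq : ∀ u ∈ U, u * u ∈ Λ.Z := fun u hu => by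
    obtain ⟨μ, hμ⟩ := zt u hu
    have h7 := Bt_mul h ω hμ hμ (hz u hu) 1 ω.one_mem
    rw [add2, zero_mul, Λ.p_zero, mul_one] at h7
    obtain ⟨ρ, hρ, c, d, es⟩ := h.a1_S.1 (inT _ (mul_mem hu hu) (mul_inv_eq_iff_eq_mul.1 h7))
    obtain rfl : c = 0 := eq_zero_of_B (F := F) fun a => by
      obtain ⟨g, e⟩ := up u hu a
      have k : u * u * Λ.p a 0 * (u * u)⁻¹ = Λ.p a 0 := by
        calc _ = u * (u * Λ.p a 0 * u⁻¹) * u⁻¹ := by group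
          _ = u * (Λ.p a 0 * Λ.p 0 g) * u⁻¹ := by rw [e]
          _ = u * Λ.p a 0 * u⁻¹ * (u * Λ.p 0 g * u⁻¹) := by group
          _ = _ := by rw [e, hz u hu, mul_assoc, Λ.z_sq, mul_one]
      rw [es, show ρ * Λ.p c d * Λ.p a 0 * (ρ * Λ.p c d)⁻¹ = ρ * (Λ.p c d * Λ.p a 0 * (Λ.p c d)⁻¹) * ρ⁻¹ by
        group, Λ.p_conj, R_p hρ, mul_inv_cancel_right] at k
      simpa using (Λ.p_eq_iff.1 k).2
    obtain ⟨m, hm, rfl⟩ := ω.ε_surj ρ hρ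
    have k : u * (u * u) * u⁻¹ = u * u := by group
    rw [es, ← conj_mul, hμ m hm, hz u hu, mul_left_inj, mul_eq_left, Λ.p_eq_one] at k
    rcases mul_eq_zero.1 k.2 with rfl | rfl
    · refine S_sq h (inT u hu (mul_inv_eq_iff_eq_mul.1 ?_))
      rw [hμ 1 ω.one_mem, zero_mul, Λ.p_zero, mul_one]
    · exact ⟨d, by rw [es, ε_zero h, one_mul]⟩
  obtain ⟨Y, hZY, hYU, hHY, hYT, hdec⟩ := rel_maschke (le_sup_right.trans (VS h)) h2 usq (A := Λ.H)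
    (Λ.H_le (fun k => h4 (hNS h k)) (h4 (rNS h)))
    (Λ.H_le (hNS h) (rNS h)) (Λ.H_le Λ.h_mem_norm_Z Λ.r_mem_norm_Z) Λ.odd_H
  have hsec : ∀ b, ∃ w ∈ Y, Bt ω w b ∧ (b = 0 → w = 1) := fun b => by
    by_cases hb : b = 0
    · exact ⟨1, one_mem _, fun x _ => by simp [hb, Λ.p_zero], fun _ => rfl⟩
    obtain ⟨s, hs, e⟩ := ball b
    obtain ⟨k, hk, w, hw, rfl⟩ := hdec s hs
    refine ⟨w, hw, fun x hx => ?_, fun h => absurd h hb⟩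
    calc _ = k⁻¹ * (k * w * ω.ε x * (k * w)⁻¹) * k := by group
      _ = _ := by
        rw [e x hx, mul_assoc, ← h.a1_SV hk (h.a1_V.2 ⟨_, ω.ε_mem x hx, _, rfl⟩), inv_mul_cancel_left]
  choose y hy yt y0 using hsec
  have key : ∀ w ∈ Y, ∀ b, Bt ω w b → ∃ d, w = y b * Λ.p 0 d := by
    intro w hw b e
    obtain ⟨d, hd⟩ := hYT _ (mul_mem (inv_mem (hy b)) hw) (same _ (hYU (hy b)) _ (hYU hw) b (yt b) e)
    exact ⟨d, by rw [← hd]; group⟩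
  have yz := fun b => uz _ (hYU (hy b))
  have ymul : ∀ b b', ∃ d, y b * y b' = y (b + b') * Λ.p 0 d := fun b b' =>
    key _ (mul_mem (hy b) (hy b')) _ (Bt_mul h ω (yt b) (yt b') (hz _ (hYU (hy b))))
  have yh : ∀ (k : Fˣ) b, ∃ d, Λ.h k * y b * (Λ.h k)⁻¹ = y ((k : F) ^ 2 * b) * Λ.p 0 d :=
    fun k b => key _ (conj_mem_of_mem_normalizer (hHY (Λ.h_mem_H k)) (hy b)) _
      (Bt_cj h ω (yt b) (Λ.A_le (Λ.h_mem k)) (Λ.h_conj_z k))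
  have yr : ∀ b, ∃ d, Λ.r * y b * Λ.r⁻¹ = y b * Λ.p 0 d :=
    fun b => key _ (conj_mem_of_mem_normalizer (hHY Λ.r_mem_H) (hy b)) _ (by
      have := Bt_cj h ω (yt b) (Λ.A_le Λ.r_mem) rz
      rwa [one_mul] at this)
  have sqz : ∀ b d, y b * Λ.p 0 d * (y b * Λ.p 0 d) = y b * y b := fun b d => by
    rw [mul_assoc, ← mul_assoc (Λ.p 0 d), ← yz, mul_assoc, Λ.z_sq, mul_one]
  obtain ⟨c, hc1⟩ := usq _ (hYU (hy 1))
  have ysq : ∀ b, y b * y b = Λ.p 0 (c * b) := fun b => by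
    by_cases hb : b = 0
    · rw [y0 b hb, hb, mul_zero, Λ.p_zero, mul_one]
    obtain ⟨k, hk⟩ := exists_unit_sq hb
    obtain ⟨d, hd⟩ := yh k 1
    rw [hk, mul_one] at hd
    rw [← sqz b d, ← hd, mul_comm c, ← hk, ← Λ.h_conj_z, ← hc1]; group
  have ycomm : ∀ b b', y b * y b' = y b' * y b := fun b b' => by
    obtain ⟨d, hd⟩ := ymul b b'
    have e := sqz (b + b') d
    rw [← hd, ysq, mul_add, ← Λ.z_mul, ← ysq, ← ysq] at e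
    have e2 : y b * (y b' * y b) * y b' = y b * (y b * y b') * y b' := by
      simpa only [mul_assoc] using e
    exact (mul_left_cancel (mul_right_cancel e2)).symm
  have yp : ∀ b a d, y b * Λ.p a d = Λ.p a d * y b := fun b a d => by
    obtain ⟨e, he⟩ := yr b
    exact Λ.comm_P_of_r (yz b) (fun a => let ⟨g, hg⟩ := up _ (hYU (hy b)) a
      ⟨g, Λ.Cm_of_conj hg (yz b g)⟩) he a d
  let Y0 : YD ω := ⟨y, c, fun b x hx => Λ.Cm_of_conj (by rw [yt b x hx, mul_comm b]) (yz b _), ymul, ycomm,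
    ysq, yp, yh, fun b => by
      obtain ⟨e, he⟩ := yr b
      rw [comm_of_odd Λ.r_odd he (Λ.r_z e) (j := 1) (by rw [pow_one, sq, Λ.z_sq]), mul_one] at he
      exact mul_inv_eq_iff_eq_mul.1 he, y0 0 rfl⟩
  refine ⟨Y0, (show U = (Y0.X0 h).U from le_antisymm (fun u hu => ?_) ?_) ▸ h4⟩
  · obtain ⟨k, hk, w, hw, rfl⟩ := hdec u hu
    obtain ⟨b, eb⟩ := zt w (hYU hw)
    obtain ⟨d, rfl⟩ := key w hw b eb
    obtain ⟨ρ, hρ, a, e, rfl⟩ := h.a1_S.1 hk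
    obtain ⟨x, hx, rfl⟩ := ω.ε_surj ρ hρ
    exact mul_mem (mul_mem ((Y0.X0 h).R_ε hx).mem ((Y0.X0 h).R_p a e).mem)
      (mul_mem ((Y0.X0 h).R_y b).mem ((Y0.X0 h).R_p 0 d).mem)
  · rintro _ ⟨x, a, b, ⟨hx, d, rfl⟩, -⟩
    exact mul_mem (mul_mem (h2 (mem_sup_left (ω.ε_mem x hx))) (h2 (pS h a d))) (hYU (hy b))

theorem NY (X : EF G F K) (hX : X.toFrame = Λ.toFrame) {n : G} (h1 : n ∈ 𝐍(Λ.R)) (h2 : n ∈ 𝐍(X.U)) :
    n ∈ 𝐍(X.Y) := by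
  have hA := h.norm_A h1
  have hP := Λ.nz n hA fun b => by
    have := conj_mem_of_mem_normalizer (X.norm_U_le h2) (X.z_mem_Z b)
    rw [hX] at this
    exact this
  obtain ⟨a, b, hh, -⟩ := Λ.mono n hA hP
  rw [← hX] at hh hP
  have pY : X.p a b ∈ 𝐍(X.Y) := X.P_le_U.trans
    (fun u hu => mem_norm fun w hw => conj_mem_of_sq (fun _ k => EF.Z_le_sub (X.U_sq k)) EF.sub_le hu hw)
    (X.p_mem_P a b)
  have nP : X.p a b * n ∈ 𝐍(X.P) := mul_mem (le_normalizer (X.p_mem_P a b)) (mem_norm (by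
    rintro _ ⟨a', b', rfl⟩; exact hP a' b'))
  have nU : X.p a b * n ∈ 𝐍(X.U) := mul_mem (le_normalizer (X.R_p a b).mem) h2
  rw [← mul_mem_cancel_left pY]
  set m := X.p a b * n
  obtain ⟨k, -, hk⟩ := Frame.exists_k (F := F)
  obtain ⟨k', hk'⟩ := hh k
  refine mem_norm fun y hy => ?_
  obtain ⟨w, hw, rfl⟩ := exists_comm_of_fpf (Y := X.Y) (h := X.h k) (fun w hw => by
      obtain ⟨c, r⟩ := EF.mem_Y.1 hw
      exact EF.mem_Y.2 ⟨_, by simpa using r.h_conj k⟩)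
    (fun w hw e => by
      obtain ⟨c, r⟩ := EF.mem_Y.1 hw
      have r' := r.h_conj k
      rw [e] at r'
      obtain rfl : c = 0 := eq_zero_of_mul_eq hk (r'.uniq r).2.2
      obtain ⟨d, rfl⟩ := r.mem_Z
      rw [X.h_conj_z] at e
      rw [eq_zero_of_mul_eq hk (X.z_inj e), X.p_zero]) hy
  obtain ⟨c, r⟩ := EF.mem_Y.1 hw
  obtain ⟨x, a', b', r'⟩ := EF.mem_U.1 (conj_mem_of_mem_normalizer nU r.mem)
  obtain rfl : a' = 0 := eq_zero_of_B (F := F) fun e => by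
    obtain ⟨e', d', k1⟩ := conj_mem_of_mem_normalizer' nP (X.p_mem_P e 0)
    have k2 := (r.comm_iff (X.R_p e' d')).2 (by simp [B_zero_left])
    have := (r'.comm_iff (X.R_p e 0)).1 (by
      calc _ = m * (w * (m⁻¹ * X.p e 0 * m)) * m⁻¹ := by group
        _ = _ := by rw [k1, k2, ← k1]; group)
    simpa using this
  have := (r'.h_conj k').mul r'.inv
  rw [add2, mul_zero, add_zero, ← hk'] at this
  rw [show m * (X.h k * w * (X.h k)⁻¹ * w⁻¹) * m⁻¹ =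
    m * X.h k * m⁻¹ * (m * w * m⁻¹) * (m * X.h k * m⁻¹)⁻¹ * (m * w * m⁻¹)⁻¹ by group]
  exact EF.mem_Y.2 ⟨_, this⟩

end EA2

open EA2 RR in
theorem EO.exists_EH {Λ : Loc G F K} (ω : EO Λ) (h : Λ.EHy) : Nonempty (EH G F K) := by
  obtain ⟨Y, hU⟩ := exists_YD h ω
  have fT : Λ.f ∈ Λ.T := (Λ.mem_T _).2 ⟨1, Λ.R.one_mem, 0, 0, 1, by rw [Λ.p_zero]; simp⟩
  have fe : ∀ x ∈ ω.Φ, ω.ε x * Λ.f = Λ.f * ω.ε x := fun x hx =>
    (h.cent (ω.ε_mem x hx) (Λ.T_syl.le fT)).symm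
  have fY : Λ.f ∈ 𝐍((Y.X0 h).Y) := NY h _ rfl Λ.f_R (hU (NS h Λ.f_R (mem_norm (by
    rintro _ ⟨a, b, rfl⟩
    obtain ⟨d, e⟩ := Λ.f_p a b
    exact ⟨_, d, e⟩))))
  have fy : ∀ b, ∃ b', (Y.X0 h).R (Λ.f * Y.y b * Λ.f⁻¹) 0 0 b' ∧ ∀ x ∈ ω.Φ, x * b' = Λ.σF (x * b) := by
    intro b
    obtain ⟨b', r⟩ := EF.mem_Y.1 (conj_mem_of_mem_normalizer fY (EF.mem_Y.2 ⟨b, (Y.X0 h).R_y b⟩))
    refine ⟨b', r, fun x hx => ?_⟩
    have c1 := ((Y.X0 h).Cm_y b hx).conj_by (Λ.f_z _)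
    have c2 := r.cm ((Y.X0 h).R_ε hx)
    have c3 : Λ.f * (Y.X0 h).ε x * Λ.f⁻¹ = (Y.X0 h).ε x := mul_inv_eq_iff_eq_mul.2 (fe x hx).symm
    rw [c3] at c1
    simpa [B_zero_left] using c2.uniq c1
  let X : EF G F K := { Y.X0 h with
    f := Λ.f
    σ := Λ.σ
    σF := Λ.σF
    ε_f := fe
    σ_em := Λ.σ_em
    σ_two := Λ.σ_two
    σ_fix := fun x hx => by
      obtain ⟨b', -, e⟩ := fy 1
      have e1 := e 1 ω.one_mem
      have e2 := e x hx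
      simp only [mul_one, one_mul, map_one] at e1 e2
      rw [← e2, e1, mul_one]
    f_p := Λ.f_p
    f_z := Λ.f_z
    f_y := fun b => by
      obtain ⟨b', r, e⟩ := fy b
      have e1 := e 1 ω.one_mem
      rw [one_mul, one_mul] at e1
      exact ((Y.X0 h).R_y _).eq_mul_z (e1 ▸ r)
    f_ker := fun i hi => ω.ε_surj _ (Λ.f_ker i hi) }
  have yB : ∀ μ, Bt ω (Y.y μ) μ := fun μ x hx => by
    have := (X.Cm_y μ hx).conj (Y.y_p μ 0 _)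
    rw [mul_comm x] at this
    exact this
  have dec : ∀ n, n ∈ 𝐍(X.V) → ∃ μ, (X.y μ)⁻¹ * n ∈ 𝐍(Λ.R) := fun n hn => by
    obtain ⟨x, hx, d, e⟩ := EF.mem_V.1 (conj_mem_of_mem_normalizer hn (EF.mem_V.2 ⟨1, X.R_ε X.one_mem⟩))
    rw [X.y_zero, mul_one] at e
    have x0 : x ≠ 0 := by
      rintro rfl
      rw [X.ε_zero, one_mul] at e
      exact h.ne_z (t_mem h ω) (t_ne h ω) n d e
    refine ⟨d / x, h.ti (t_mem h ω) (t_ne h ω) ?_⟩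
    have e2 := yB (d / x) x hx
    rw [div_mul_cancel₀ _ x0] at e2
    have e3 : n * ω.ε 1 * n⁻¹ = Y.y (d / x) * ω.ε x * (Y.y (d / x))⁻¹ := e.trans e2.symm
    have e4 : (Y.y (d / x))⁻¹ * n * ω.ε 1 * ((Y.y (d / x))⁻¹ * n)⁻¹ = ω.ε x := by
      calc _ = (Y.y (d / x))⁻¹ * (n * ω.ε 1 * n⁻¹) * Y.y (d / x) := by group
        _ = _ := by rw [e3]; group
    exact e4 ▸ ω.ε_mem x hx
  have TS : Λ.T ≤ X.S1 := fun t ht => by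
    obtain ⟨ρ, hρ, a, b, i, rfl⟩ := (Λ.mem_T t).1 ht
    obtain ⟨x, hx, rfl⟩ := ω.ε_surj ρ hρ
    exact mul_mem (X.U_le (mul_mem (X.R_ε hx).mem (X.R_p a b).mem)) (pow_mem X.f_mem i)
  refine ⟨⟨X, fun g b => h.ne_z (t_mem h ω) (t_ne h ω) g b, fun Q hQ hS x hx hn => ?_,
    fun n h1 h2 => ?_, fun n hn => ?_, fun n h1 h2 => ?_⟩⟩
  · obtain ⟨μ, e⟩ := dec x hn
    have m := X.U_le (X.R_y μ).mem
    exact (mul_mem_cancel_left (inv_mem m)).1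
      (TS (h.mem_T hQ (TS.trans hS) (mul_mem (inv_mem (hS m)) hx) e))
  · obtain ⟨μ, e⟩ := dec n h2
    exact (mul_mem_cancel_left (inv_mem (le_normalizer (EF.mem_Y.2 ⟨μ, X.R_y μ⟩)))).1
      (NY h X rfl e (mul_mem (inv_mem (le_normalizer (X.R_y μ).mem)) h1))
  · obtain ⟨μ, e⟩ := hn 1 ω.one_mem
    exact ⟨μ, Bt_of h ω (yB μ) e⟩
  · obtain ⟨a, b, hc⟩ := Λ.triv n (Λ.C_le (mem_C h (t_mem h ω) (t_ne h ω) (h1 1 ω.one_mem))) h2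
    refine ⟨a, fun a' d => ?_⟩
    have e : Λ.p a' d * (Λ.p a b * n) = Λ.p a b * n * Λ.p a' d := hc _ (Λ.p_mem a' d)
    show n * Λ.p a' d * n⁻¹ = Λ.p a' (d + B F a a')
    rw [← Λ.p_conj a a' (b + nm F a) d, ← Λ.p_inv]
    calc _ = (Λ.p a b)⁻¹ * (Λ.p a b * n * Λ.p a' d) * n⁻¹ := by group
      _ = _ := by rw [← e]; group

end H55.U3
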