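import Cfsg.Agent.Lib.U3S.EA1

/-! The construction of `U`: the Sylow subgroup. -/

set_option autoImplicit false
set_option linter.unusedSectionVars false
set_option maxHeartbeats 200000

namespace H55.U3

open Subgroup H69 H25.Sz

variable {G : Type*} [Group G] [Finite G] {F K : Type*} [Field F] [Field K] [CharP F 2] [CharP K 2]
  [Big F] [UF F K] [Fintype F] [Fintype K]

namespace EA2

open RR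

/-- The elements of `N` acting trivially on `A / B`. -/
def Tv (N A B : Subgroup G) (hB : N ≤ 𝐍(B)) : Subgroup G where
  carrier := {x | x ∈ N ∧ ∀ u ∈ A, x * u * x⁻¹ * u⁻¹ ∈ B}
  mul_mem' := fun {x y} hx hy => ⟨mul_mem hx.1 hy.1, fun u hu => by
    rw [show x * y * u * (x * y)⁻¹ * u⁻¹ = x * (y * u * y⁻¹ * u⁻¹) * x⁻¹ * (x * u * x⁻¹ * u⁻¹) by group]
    exact mul_mem (conj_mem_of_mem_normalizer (hB hx.1) (hy.2 u hu)) (hx.2 u hu)⟩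
  one_mem' := ⟨one_mem _, fun u _ => by simpa using one_mem _⟩
  inv_mem' := fun {x} hx => ⟨inv_mem hx.1, fun u hu => by
    have := conj_mem_of_mem_normalizer' (hB hx.1) (inv_mem (hx.2 u hu))
    rwa [show x⁻¹ * (x * u * x⁻¹ * u⁻¹)⁻¹ * x = x⁻¹ * u * x⁻¹⁻¹ * u⁻¹ by group] at this⟩

theorem Tv_cj {N A B : Subgroup G} {hB : N ≤ 𝐍(B)} (hA : N ≤ 𝐍(A)) {n x : G} (hn : n ∈ N)
    (hx : x ∈ Tv N A B hB) : n * x * n⁻¹ ∈ Tv N A B hB :=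
  ⟨mul_mem (mul_mem hn hx.1) (inv_mem hn), fun u hu => by
    have := conj_mem_of_mem_normalizer (hB hn) (hx.2 _ (conj_mem_of_mem_normalizer' (hA hn) hu))
    rwa [show n * (x * (n⁻¹ * u * n) * x⁻¹ * (n⁻¹ * u * n)⁻¹) * n⁻¹ =
      n * x * n⁻¹ * u * (n * x * n⁻¹)⁻¹ * u⁻¹ by group] at this⟩

/-- The elements of odd order centralising `R P`. -/
def D (Λ : Loc G F K) : Set G := {d | Odd (orderOf d) ∧ ∀ s ∈ Λ.R ⊔ Λ.P, d * s = s * d}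

variable {Λ : Loc G F K} (h : Λ.EHy)
include h

theorem mem_C {e c : G} (he : e ∈ Λ.R) (h1 : e ≠ 1) (hc : c * e = e * c) : c ∈ Λ.C :=
  h.hC e he h1 ▸ mem_centralizer_singleton_iff.2 hc

theorem pS (a : K) (b : F) : Λ.p a b ∈ Λ.R ⊔ Λ.P := mem_sup_right (Λ.p_mem_P a b)

theorem VS : Λ.R ⊔ Λ.Z ≤ Λ.R ⊔ Λ.P := sup_le_sup_left Λ.Z_le_P _

theorem S_sq {s : G} (hs : s ∈ Λ.R ⊔ Λ.P) : s * s ∈ Λ.Z := by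
  obtain ⟨ρ, hρ, a, b, rfl⟩ := h.a1_S.1 hs
  exact ⟨_, by rw [sq_Q hρ, h.hE ρ hρ, one_mul]⟩

theorem V_sq {s : G} (hs : s ∈ Λ.R ⊔ Λ.Z) : s * s = 1 := by
  obtain ⟨ρ, hρ, b, rfl⟩ := h.a1_V.1 hs
  rw [sq_Q hρ, h.hE ρ hρ, one_mul, nm_zero, Λ.p_zero]

theorem mem_V {s : G} (hs : s ∈ Λ.R ⊔ Λ.P) (h2 : s * s = 1) : s ∈ Λ.R ⊔ Λ.Z := by
  obtain ⟨ρ, hρ, a, b, rfl⟩ := h.a1_S.1 hs
  rw [sq_Q hρ, h.hE ρ hρ, one_mul, Λ.p_eq_one, nm_eq_zero] at h2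
  exact h.a1_V.2 ⟨ρ, hρ, b, by rw [h2.2]⟩

theorem p_mem_V {a : K} {b : F} (hp : Λ.p a b ∈ Λ.R ⊔ Λ.Z) : a = 0 := Λ.p_sq_eq_one (V_sq h hp)

theorem isP_S : IsPGroup 2 (Λ.R ⊔ Λ.P : Subgroup G) := isPGroup_iff_mem.2 fun x hx =>
  ⟨2, by rw [show 2 ^ 2 = 2 * 2 by rfl, pow_mul, pow_two, pow_two, Λ.Z_sq (S_sq h hx)]⟩

theorem NV : 𝐍(Λ.R ⊔ Λ.P) ≤ 𝐍(Λ.R ⊔ Λ.Z) := fun n hn => mem_norm fun y hy =>
  mem_V h (conj_mem_of_mem_normalizer hn (VS h hy)) (by rw [conj_mul, V_sq h hy]; group)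

theorem NZ : 𝐍(Λ.R ⊔ Λ.P) ≤ 𝐍(Λ.Z) :=
  Λ.norm_Z_of_sq (fun b => let ⟨x, hx, e⟩ := Λ.exists_sq_P b; ⟨x, mem_sup_right (Λ.PF_le_P hx), e⟩)
    fun _ hx => S_sq h hx

theorem NS {n : G} (h1 : n ∈ 𝐍(Λ.R)) (h2 : n ∈ 𝐍(Λ.P)) : n ∈ 𝐍(Λ.R ⊔ Λ.P) := mem_norm fun s hs => by
  obtain ⟨ρ, hρ, a, b, rfl⟩ := h.a1_S.1 hs
  rw [← conj_mul]
  exact mul_mem (mem_sup_left (conj_mem_of_mem_normalizer h1 hρ))
    (mem_sup_right (conj_mem_of_mem_normalizer h2 (Λ.p_mem_P a b)))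

theorem hNS (k : Fˣ) : Λ.h k ∈ 𝐍(Λ.R ⊔ Λ.P) :=
  NS h (h.a1_CN (Λ.A_le (Λ.h_mem k))) (Λ.h_mem_norm_P k)

theorem rNS : Λ.r ∈ 𝐍(Λ.R ⊔ Λ.P) := NS h (h.a1_CN (Λ.A_le Λ.r_mem)) Λ.r_mem_norm_P

theorem D_C {d : G} (hd : d ∈ D Λ) : d ∈ 𝐂(Λ.A) := by
  obtain ⟨e, he, -, -, e1, -⟩ := h.a1_three
  obtain ⟨a, b, hc⟩ := Λ.triv d (Λ.C_le (mem_C h he e1 (hd.2 e (mem_sup_left he))))
    fun a => ⟨0, by rw [hd.2 _ (pS h a 0), mul_inv_cancel_right]⟩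
  have c : Commute (Λ.p a b) d := (hd.2 _ (pS h a b)).symm
  have h4 := pow_mem hc 4
  rw [c.mul_pow, show 4 = 2 * 2 by rfl, pow_mul, pow_two, pow_two, Λ.Z_sq (Λ.P_sq (Λ.p_mem_P a b)),
    one_mul] at h4
  exact zpowers_le.2 h4 (mem_zpowers_pow_iff.2
    (Nat.Coprime.mul_left (Nat.coprime_two_left.2 hd.1) (Nat.coprime_two_left.2 hd.1)))

theorem cD_cj {n x : G} (hn : n ∈ 𝐍(Λ.R ⊔ Λ.P)) (hx : x ∈ centralizer (D Λ)) :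
    n * x * n⁻¹ ∈ centralizer (D Λ) := fun d hd => by
  have := hx (n⁻¹ * d * n⁻¹⁻¹) ⟨by rw [H9.orderOf_conj]; exact hd.1, fun s hs => by
    have := hd.2 _ (conj_mem_of_mem_normalizer hn hs)
    calc n⁻¹ * d * n⁻¹⁻¹ * s = n⁻¹ * (d * (n * s * n⁻¹)) * n := by group
      _ = _ := by rw [this]; group⟩
  calc d * (n * x * n⁻¹) = n * (n⁻¹ * d * n⁻¹⁻¹ * x) * n⁻¹ := by group
    _ = _ := by rw [this]; group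

theorem h_cD (k : Fˣ) : Λ.h k ∈ centralizer (D Λ) := fun _ hd => (D_C h hd _ (Λ.h_mem k)).symm

theorem cz {c : G} (hc : c ∈ Λ.C) (h2 : ∀ a, ∃ d, c * Λ.p a 0 * c⁻¹ = Λ.p a d) :
    ∃ s ∈ Λ.R ⊔ Λ.P, ∃ d ∈ D Λ, c = s * d := by
  obtain ⟨a, b, hA⟩ := Λ.triv c (Λ.C_le hc) h2
  have hm : Λ.p a b * c ∈ Λ.C ⊓ 𝐂(Λ.A) := ⟨mul_mem (Λ.A_le (Λ.p_mem a b)) hc, hA⟩
  obtain ⟨u, d, hu, hd, ⟨j, hj⟩, ho, e⟩ := two_odd (Λ.p a b * c)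
  have hu' := zpowers_le.2 hm hu
  have hd' := zpowers_le.2 hm hd
  have uR : u ∈ Λ.R := Λ.R_syl.le_of_le_normalizer' (isP_zpowers hj) (zpowers_le.2 hu')
    (zpowers_le.2 (h.a1_CN hu'.1)) (mem_zpowers u)
  refine ⟨(Λ.p a b)⁻¹ * u, mul_mem (inv_mem (pS h a b)) (mem_sup_left uR), d, ⟨ho, fun s hs => ?_⟩,
    by rw [mul_assoc, ← e, inv_mul_cancel_left]⟩
  obtain ⟨ρ, hρ, a', b', rfl⟩ := h.a1_S.1 hs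
  rw [← mul_assoc, h.cent hρ hd'.1, mul_assoc, mul_assoc, hd'.2 _ (Λ.p_mem a' b')]

/-- The elements of `N(R P)` acting trivially on `R P / V` and on `V / Z`. -/
def J : Subgroup G :=
  Tv 𝐍(Λ.R ⊔ Λ.P) (Λ.R ⊔ Λ.P) (Λ.R ⊔ Λ.Z) (NV h) ⊓ Tv 𝐍(Λ.R ⊔ Λ.P) (Λ.R ⊔ Λ.Z) Λ.Z (NZ h)

theorem auto_lemmas : True := by
  have := @Tv.eq_1.{0}; have := @D.eq_1.{0,0,0}; have := @J.eq_1.{0,0,0}
  trivial

theorem J_cj {n x : G} (hn : n ∈ 𝐍(Λ.R ⊔ Λ.P)) (hx : x ∈ J h) : n * x * n⁻¹ ∈ J h :=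
  ⟨Tv_cj le_rfl hn hx.1, Tv_cj (NV h) hn hx.2⟩

theorem S_J : Λ.R ⊔ Λ.P ≤ J h := fun _ hu =>
  ⟨⟨le_normalizer hu, fun _ hv => mem_sup_right (comm_of_sq (fun _ k => S_sq h k) hu hv)⟩,
    ⟨le_normalizer hu, fun _ hv => comm_of_sq (fun _ k => S_sq h k) hu (VS h hv)⟩⟩

theorem J_p {x : G} (hx : x ∈ J h) (a : K) (b : F) :
    ∃ v ∈ Λ.R ⊔ Λ.Z, x * Λ.p a b * x⁻¹ = Λ.p a b * v :=
  ⟨_, hx.1.2 _ (pS h a b), by rw [h.a1_SV (pS h a b) (hx.1.2 _ (pS h a b))]; group⟩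

theorem J_z {x : G} (hx : x ∈ J h) (b : F) : x * Λ.p 0 b * x⁻¹ = Λ.p 0 b := by
  obtain ⟨a, rfl⟩ := nm_surj (K := K) b
  obtain ⟨v, hv, e⟩ := J_p h hx a 0
  rw [← Λ.p_sq a 0, ← conj_mul, e, mul_assoc, ← mul_assoc v, ← h.a1_SV (pS h a 0) hv, mul_assoc,
    V_sq h hv, mul_one]

theorem J_e {x e : G} (hx : x ∈ J h) (he : e ∈ Λ.R) : ∃ b, x * e * x⁻¹ = e * Λ.p 0 b := by
  obtain ⟨b, hb⟩ := hx.2.2 e (mem_sup_left he)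
  exact ⟨b, by rw [R_p he, ← hb]; group⟩

theorem J_C {c : G} (hc : c ∈ J h) (hC : c ∈ Λ.C) (a : K) : ∃ d, c * Λ.p a 0 * c⁻¹ = Λ.p a d := by
  obtain ⟨v, hv, e⟩ := J_p h hc a 0
  obtain ⟨ρ, hρ, b, rfl⟩ := h.a1_V.1 hv
  have h1 := conj_mem_of_mem_normalizer (Λ.C_le hC) (Λ.p_mem a 0)
  rw [e, mul_mem_cancel_left (Λ.p_mem a 0), mul_mem_cancel_right (Λ.p_mem 0 b)] at h1
  rw [eq_one_of_odd_two (Λ.zodd ρ h1 (R_c hρ)) (j := 1) (by rw [pow_one, sq, h.hE ρ hρ]), one_mul,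
    ← Λ.p_split] at e
  exact ⟨b, e⟩

variable (ω : EO Λ)

theorem t_mem : ω.ε 1 ∈ Λ.R := ω.ε_mem 1 ω.one_mem

theorem t_ne : ω.ε 1 ≠ 1 := fun e => one_ne_zero (ω.ε_inj 1 ω.one_mem e)

theorem transl (b : F) : ∃ n ∈ J h ⊓ centralizer (D Λ), n * ω.ε 1 * n⁻¹ = ω.ε 1 * Λ.p 0 b := by
  by_cases hb : b = 0
  · exact ⟨1, one_mem _, by simp [hb, Λ.p_zero]⟩
  have hg := ω.g_norm
  have ht := t_mem h ω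
  obtain ⟨x', hx', e1⟩ := ω.g_ε 1 ω.one_mem
  set g := ω.g
  set t := ω.ε 1
  obtain ⟨l, hl, τ, τF, k1, k2, -⟩ := Λ.aut_gen (Y := Λ.R ⊔ Λ.Z) (fun y hy => V_sq h hy)
    (fun y hy a b => (h.a1_SV (pS h a b) hy).symm) le_sup_right (fun _ _ k => p_mem_V h k)
    (fun a => by
      obtain ⟨ρ, hρ, c, d, e⟩ := h.a1_S.1 (conj_mem_of_mem_normalizer hg (pS h a 0))
      exact ⟨c, _, h.a1_V.2 ⟨ρ, hρ, d, rfl⟩, by rw [e, Λ.p_split c d, ← mul_assoc, R_p hρ, mul_assoc]⟩)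
    (NV h hg)
  obtain ⟨k, -, hk⟩ := Frame.exists_k (F := F)
  let k' : Fˣ := Units.mk0 (τF k) (by simp)
  have hT : ∀ m, Λ.h m ∈ Tv 𝐍(Λ.R ⊔ Λ.P) (Λ.R ⊔ Λ.Z) Λ.Z (NZ h) := fun m => ⟨hNS h m, fun v hv => by
    obtain ⟨ρ, hρ, d, rfl⟩ := h.a1_V.1 hv
    rw [h.a1_h hρ, R_p hρ, R_p hρ, mul_inv_rev, mul_assoc, mul_inv_cancel_left]
    exact mul_mem (Λ.z_mem_Z _) (inv_mem (Λ.z_mem_Z _))⟩
  have h2 := mul_mem (Tv_cj (NV h) hg (hT k)) (inv_mem (hT k'))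
  have hx : g * Λ.h k * g⁻¹ * (Λ.h k')⁻¹ ∈ J h := ⟨⟨h2.1, fun u hu => by
    obtain ⟨ρ, hρ, c, d, rfl⟩ := h.a1_S.1 hu
    obtain ⟨v, hv, e⟩ := Λ.trans_triv hl k1 k2 (NV h hg) (NV h (hNS h k)) (k' := k') rfl c
    set n := g * Λ.h k * g⁻¹ * (Λ.h k')⁻¹
    have hw : ρ * Λ.p 0 d ∈ Λ.R ⊔ Λ.Z := h.a1_V.2 ⟨ρ, hρ, d, rfl⟩
    have k3 := mul_mem (mul_mem hv (conj_mem_of_mem_normalizer (NV h h2.1) hw)) (inv_mem hw)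
    rw [show ρ * Λ.p c d = Λ.p c 0 * (ρ * Λ.p 0 d) by rw [← mul_assoc, ← R_p hρ, mul_assoc, ← Λ.p_split],
      show n * (Λ.p c 0 * (ρ * Λ.p 0 d)) * n⁻¹ * (Λ.p c 0 * (ρ * Λ.p 0 d))⁻¹ = n * Λ.p c 0 * n⁻¹ *
        (n * (ρ * Λ.p 0 d) * n⁻¹) * (ρ * Λ.p 0 d)⁻¹ * (Λ.p c 0)⁻¹ by group, e, mul_assoc (Λ.p c 0),
      mul_assoc (Λ.p c 0), h.a1_SV (pS h c 0) k3, mul_inv_cancel_right]
    exact k3⟩, h2⟩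
  have hD := mul_mem (cD_cj h hg (h_cD h k)) (inv_mem (h_cD h k'))
  obtain ⟨c, hc'⟩ := J_e h hx ht
  have th : ∀ m, Λ.h m * t * (Λ.h m)⁻¹ = t := fun m => by
    rw [h.cent ht (Λ.A_le (Λ.h_mem m)), mul_inv_cancel_right]
  have c0 : c ≠ 0 := by
    rintro rfl
    obtain ⟨d, hd⟩ := conj_mem_of_mem_normalizer' (NZ h hg) (Λ.z_mem_Z 1)
    have e3 : g⁻¹ * t * g = ω.ε x' * Λ.p 0 d := by
      rw [← hd]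
      calc _ = g⁻¹ * (t * Λ.p 0 1 * Λ.p 0 1) * g := by rw [mul_assoc t, Λ.z_sq, mul_one]
        _ = _ := by rw [← e1]; group
    have e4 : Λ.h k * (g⁻¹ * t * g) * (Λ.h k)⁻¹ = g⁻¹ * t * g := by
      rw [Λ.p_zero, mul_one] at hc'
      calc _ = g⁻¹ * (g * Λ.h k * g⁻¹ * (Λ.h k')⁻¹ * (Λ.h k' * t * (Λ.h k')⁻¹) *
            (g * Λ.h k * g⁻¹ * (Λ.h k')⁻¹)⁻¹) * g := by group
        _ = _ := by rw [th, hc']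
    rw [e3, h.a1_h (ω.ε_mem x' hx'), mul_right_inj] at e4
    have d0 : d ≠ 0 := by
      rintro rfl
      rw [Λ.p_zero, mul_assoc, inv_mul_eq_one, eq_comm, mul_eq_right, Λ.p_eq_one] at hd
      exact one_ne_zero hd.2
    exact hk (mul_right_cancel₀ d0 ((Λ.z_inj e4).trans (one_mul d).symm))
  obtain ⟨m, hm⟩ := Λ.z_conj_all c0 hb
  refine ⟨_, ⟨J_cj h (hNS h m) hx, cD_cj h (hNS h m) hD⟩, ?_⟩
  rw [← hm]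
  calc _ = Λ.h m * (g * Λ.h k * g⁻¹ * (Λ.h k')⁻¹ * ((Λ.h m)⁻¹ * (Λ.h m * t * (Λ.h m)⁻¹) * Λ.h m) *
        (g * Λ.h k * g⁻¹ * (Λ.h k')⁻¹)⁻¹) * (Λ.h m)⁻¹ := by rw [th]; group
    _ = Λ.h m * t * (Λ.h m)⁻¹ * (Λ.h m * Λ.p 0 c * (Λ.h m)⁻¹) := by
        rw [show (Λ.h m)⁻¹ * (Λ.h m * t * (Λ.h m)⁻¹) * Λ.h m = t by group, hc']; group
    _ = _ := by rw [th]

theorem exists_U : ∃ U : Subgroup G, Λ.R ⊔ Λ.P ≤ U ∧ U ≤ J h ∧ 𝐍(Λ.R ⊔ Λ.P) ≤ 𝐍(U) ∧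
    (∀ b, ∃ s ∈ U, s * ω.ε 1 * s⁻¹ = ω.ε 1 * Λ.p 0 b) ∧
    ∀ u ∈ U, u * ω.ε 1 = ω.ε 1 * u → u ∈ Λ.R ⊔ Λ.P := by
  have : Fact (Nat.Prime 2) := ⟨Nat.prime_two⟩
  have ht := t_mem h ω
  obtain ⟨S, hS, hQS⟩ := exists_isSylowIn_le (isP_S h)
    (le_inf (S_J h) (fun s hs d hd => hd.2 s hs) : _ ≤ J h ⊓ centralizer (D Λ))
  obtain ⟨j, -, hj⟩ := card_F F
  have hset : {y : G | ∃ w ∈ J h ⊓ centralizer (D Λ), w * ω.ε 1 * w⁻¹ = y}.ncard = 2 ^ j := by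
    have : {y : G | ∃ w ∈ J h ⊓ centralizer (D Λ), w * ω.ε 1 * w⁻¹ = y} =
        Set.range fun b => ω.ε 1 * Λ.p 0 b := by
      ext y
      constructor
      · rintro ⟨w, hw, rfl⟩
        obtain ⟨b, e⟩ := J_e h hw.1 ht
        exact ⟨b, e.symm⟩
      · rintro ⟨b, rfl⟩; exact transl h ω b
    rw [this, Set.ncard_range_of_injective fun b d e => Λ.z_inj (mul_left_cancel e), hj]
  have hst : ∀ b, ∃ s ∈ S, s * ω.ε 1 * s⁻¹ = ω.ε 1 * Λ.p 0 b := fun b => by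
    obtain ⟨n, k1, k2⟩ := transl h ω b
    exact k2 ▸ sylow_trans hS hset k1
  have hJ : ∀ c ∈ J h, c * ω.ε 1 = ω.ε 1 * c → ∃ s ∈ Λ.R ⊔ Λ.P, ∃ d ∈ D Λ, c = s * d := fun c hc e =>
    cz h (mem_C h ht (t_ne h ω) e) (J_C h hc (mem_C h ht (t_ne h ω) e))
  have dec : ∀ c ∈ J h, ∃ s ∈ S, ∃ d ∈ D Λ, c = s * d := fun c hc => by
    obtain ⟨b, eb⟩ := J_e h hc ht
    obtain ⟨s, hs, e⟩ := hst b
    obtain ⟨u, hu, d, hd, e2⟩ := hJ (s⁻¹ * c) (mul_mem (inv_mem (hS.le hs).1) hc) (by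
      calc s⁻¹ * c * ω.ε 1 = s⁻¹ * (c * ω.ε 1 * c⁻¹) * c := by group
        _ = _ := by rw [eb, ← e]; group)
    exact ⟨_, mul_mem hs (hQS hu), d, hd, by rw [mul_assoc, ← e2]; group⟩
  have h2 : ∀ x ∈ J h, ∀ j : ℕ, x ^ 2 ^ j = 1 → x ∈ S := fun x hx j hj => by
    obtain ⟨s, hs, d, hd, rfl⟩ := dec x hx
    obtain ⟨i, hi⟩ := isPGroup_iff_mem.1 hS.isP s hs
    rwa [odd_part_eq_one hd.1 ((hS.le hs).2 d hd) hi hj, mul_one]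
  refine ⟨S, hQS, fun s hs => (hS.le hs).1, fun n hn => mem_norm fun s hs => ?_, hst, fun u hu e => ?_⟩
  · obtain ⟨i, hi⟩ := isPGroup_iff_mem.1 hS.isP s hs
    exact h2 _ (J_cj h hn (hS.le hs).1) i (by rw [conj_pow, hi]; group)
  · obtain ⟨s, hs, d, hd, e2⟩ := hJ u (hS.le hu).1 e
    have hd' : d ∈ S := by
      rw [show d = s⁻¹ * u by rw [e2, inv_mul_cancel_left]]; exact mul_mem (inv_mem (hQS hs)) hu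
    obtain ⟨i, hi⟩ := isPGroup_iff_mem.1 hS.isP d hd'
    rwa [e2, eq_one_of_odd_two hd.1 hi, mul_one]

end EA2

end H55.U3
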