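import Cfsg.Agent.Lib.U3S.EA2
import Cfsg.Agent.Lib.U3S.EZc
import Cfsg.Agent.Lib.U3S.EAl
import Cfsg.Agent.Lib.U3S.EOv

/-! A noncyclic elementary abelian group in the centraliser of the component. -/

set_option autoImplicit false
set_option linter.unusedSectionVars false
set_option maxHeartbeats 200000

namespace H55.U3

open Subgroup H69 H25.Sz

variable {G : Type*} [Group G] [Finite G] {F K : Type*} [Field F] [Field K] [CharP F 2] [CharP K 2]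
  [Big F] [UF F K] [Fintype F] [Fintype K]

theorem comm_conj {g u v : G} : u * (g * v * g⁻¹) = g * v * g⁻¹ * u ↔
    g⁻¹ * u * g * v = v * (g⁻¹ * u * g) := by
  constructor <;> intro h
  · calc _ = g⁻¹ * (u * (g * v * g⁻¹)) * g := by group
      _ = _ := by rw [h]; group
  · calc _ = g * (g⁻¹ * u * g * v) * g⁻¹ := by group
      _ = _ := by rw [h]; group

namespace EF

open Frame

variable (X : EF G F K)

/-- The conjugates of the elements of `V` commute with the centraliser of the conjugate of `ε 1`. -/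
theorem comm_of {g u v : G} (hg : g ∈ 𝐍(X.U)) (hu : u ∈ X.U) (hv : v ∈ X.V)
    (h : u * (g * X.ε 1 * g⁻¹) = g * X.ε 1 * g⁻¹ * u) : u * (g * v * g⁻¹) = g * v * g⁻¹ * u := by
  obtain ⟨x, a, b, h1⟩ := mem_U.1 (conj_mem_of_mem_normalizer' hg hu)
  obtain ⟨x', h2⟩ := mem_V.1 hv
  have := (h1.comm_iff (X.R_ε X.one_mem)).1 (comm_conj.1 h)
  obtain rfl : b = 0 := by simpa [B_zero_right] using this
  exact comm_conj.2 ((h1.comm_iff h2).2 (by simp [B_zero_right]))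

theorem kappa {g : G} (hg : g ∈ 𝐍(X.U)) (hn : g ∉ 𝐍(X.V)) : X.κ = 0 := by
  obtain ⟨w, hw, w0, w1⟩ := X.four
  have key : ∀ t, t ∈ X.Φ → t ≠ 0 → ∀ x a b, X.R (g * X.ε t * g⁻¹) x a b →
      b ≠ 0 ∧ nm F a + (X.κ + x) * b = 0 := fun t ht t0 x a b h => by
    have e := h.sq_iff.1 (by rw [conj_mul, X.ε_sq ht]; group)
    refine ⟨?_, e⟩
    rintro rfl
    obtain rfl : a = 0 := by simpa [nm_eq_zero] using e
    exact hn (X.mem_norm_V hg t0 (X.R_ε ht) (mem_V.2 ⟨x, h⟩))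
  obtain ⟨x, a, b, h1⟩ := mem_U.1 (conj_mem_of_mem_normalizer hg (X.R_ε X.one_mem).mem)
  obtain ⟨m, c, d, h2⟩ := mem_U.1 (conj_mem_of_mem_normalizer hg (X.R_ε hw).mem)
  have h3 := h1.mul h2
  rw [conj_mul, X.ε_mul 1 X.one_mem w hw] at h3
  obtain ⟨b0, e1⟩ := key 1 X.one_mem one_ne_zero _ _ _ h1
  obtain ⟨d0, e2⟩ := key w hw w0 _ _ _ h2
  obtain ⟨s0, e3⟩ := key _ (add_mem X.one_mem hw) (fun e => w1 (eq_of_add e).symm) _ _ _ h3
  have H : ∀ x' ∈ X.Φ, ∀ a' b', B F a' a + (x' * b + x * b') = 0 →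
      B F a' c + (x' * d + m * b') = 0 := fun x' hx' a' b' e => by
    obtain ⟨u, hu⟩ := X.R_ex hx' a' b'
    exact (hu.comm_iff h2).1 (X.comm_of hg hu.mem (mem_V.2 ⟨w, X.R_ε hw⟩) ((hu.comm_iff h1).2 e))
  by_cases ha : a = 0
  · subst ha
    obtain rfl : c = 0 := eq_zero_of_B (F := F) fun a' => by
      simpa [B_comm c] using H 0 (zero_mem _) a' 0 (by simp [B_zero_right])
    simp only [add_zero, nm_zero, zero_add, mul_eq_zero, b0, d0, s0, or_false] at e1 e2 e3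
    grind
  obtain ⟨s, rfl⟩ := (B_eq_zero ha).1 (show B F a c = 0 by
    simpa using H 0 (zero_mem _) a 0 (by simp [B_self]))
  obtain ⟨a1, k1⟩ := B_surj (F := F) ha x
  obtain ⟨a2, k2⟩ := B_surj (F := F) ha b
  have f1 := H 0 (zero_mem _) a1 1 (by rw [B_comm, k1]; simp [add2])
  have f2 := H 1 X.one_mem a2 0 (by rw [B_comm, k2]; simp [add2])
  rw [B_em_right, B_comm] at f1 f2
  rw [k1] at f1
  rw [k2] at f2
  rw [nm_em_mul] at e2
  obtain rfl : m = s * x := by grind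
  obtain rfl : d = s * b := by grind
  have : X.κ * ((s * b) * (b + s * b)) = 0 := by grind
  simpa [d0, s0] using this

theorem norm_Y_of (hΦ : ¬ ∀ x, x ∈ X.Φ) : 𝐍(X.U) ≤ 𝐍(X.Y) := fun n hn => mem_norm fun y hy => by
  classical
  push Not at hΦ
  obtain ⟨x0, hx0⟩ := hΦ
  obtain ⟨b, hy⟩ := mem_Y.1 hy
  obtain ⟨d, hd⟩ : ∃ d, ∀ u ∈ X.U, ¬ X.Cm y u d := by
    refine ⟨if b = 0 then 1 else x0 * b, fun u hu h => ?_⟩
    obtain ⟨x, a, c, hu⟩ := mem_U.1 hu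
    have := h.uniq (hy.cm hu)
    simp only [B_zero_left, zero_mul, zero_add] at this
    split_ifs at this with hb
    · simp [hb] at this
    · exact hx0 (mul_right_cancel₀ hb this ▸ hu.1)
  obtain ⟨d', e⟩ := conj_mem_of_mem_normalizer (X.norm_U_le hn) (X.z_mem_Z d)
  obtain ⟨x, a, c, h⟩ := mem_U.1 (conj_mem_of_mem_normalizer hn hy.mem)
  have key : ∀ u ∈ X.U, ¬ X.Cm (n * y * n⁻¹) u d' := fun u hu k =>
    hd _ (conj_mem_of_mem_normalizer' hn hu) (by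
      simpa [mul_assoc] using k.conj_by (g := n⁻¹) (d := d) (by rw [← e]; group))
  obtain rfl : a = 0 := by_contra fun ha => by
    obtain ⟨a', e⟩ := B_surj (F := F) ha d'
    exact key _ (X.R_p a' 0).mem (by simpa [e] using h.cm (X.R_p a' 0))
  obtain rfl : x = 0 := by_contra fun hx =>
    key _ (X.R_y (d' / x)).mem (by
      simpa [B_zero_left, mul_div_cancel₀ _ hx] using h.cm (X.R_y (d' / x)))
  exact mem_Y.2 ⟨c, h⟩

theorem not_Z {g : G} (hg : g ∈ 𝐍(X.U)) (h : X.R (g * X.ε 1 * g⁻¹) 0 0 0) : False := by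
  obtain ⟨d, e⟩ := conj_mem_of_mem_normalizer' (X.norm_U_le hg) h.mem_Z
  rw [show g⁻¹ * (g * X.ε 1 * g⁻¹) * g = X.ε 1 by group] at e
  exact one_ne_zero ((X.R_ε X.one_mem).uniq (e ▸ X.R_p 0 d)).1

theorem V_to_Y {g : G} (hg : g ∈ 𝐍(X.U)) (h : g * X.ε 1 * g⁻¹ ∈ X.Y) {v : G} (hv : v ∈ X.V) :
    g * v * g⁻¹ ∈ X.Y := by
  obtain ⟨b, h⟩ := mem_Y.1 h
  obtain ⟨x, a, c, h1⟩ := mem_U.1 (conj_mem_of_mem_normalizer hg (sub_le hv))
  obtain rfl : a = 0 := eq_zero_of_B (F := F) fun a' => by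
    simpa [B_comm a] using ((X.R_p a' 0).comm_iff h1).1 (X.comm_of hg (X.R_p a' 0).mem hv
      (((X.R_p a' 0).comm_iff h).2 (by simp [B_zero_right])))
  obtain rfl : x = 0 := by
    simpa [B_zero_left] using ((X.R_y 1).comm_iff h1).1 (X.comm_of hg (X.R_y 1).mem hv
      (((X.R_y 1).comm_iff h).2 (by simp [B_zero_right])))
  exact mem_Y.2 ⟨c, h1⟩

theorem Y_to_V {g : G} (hg : g ∈ 𝐍(X.U)) (h : g⁻¹ * X.ε 1 * g⁻¹⁻¹ ∈ X.Y) {v : G} (hv : v ∈ X.Y) :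
    g * v * g⁻¹ ∈ X.V := by
  obtain ⟨b, h⟩ := mem_Y.1 h
  have hb : b ≠ 0 := by rintro rfl; exact X.not_Z (inv_mem hg) h
  obtain ⟨d, hv⟩ := mem_Y.1 hv
  obtain ⟨x, a, c, h1⟩ := mem_U.1 (conj_mem_of_mem_normalizer hg hv.mem)
  have key : ∀ u x' a', X.R u x' a' 0 → B F a' a + (x' * c + x * 0) = 0 := fun u x' a' hu => by
    obtain ⟨x2, a2, b2, h2⟩ := mem_U.1 (conj_mem_of_mem_normalizer' hg hu.mem)
    have e := (h2.comm_iff h).1 (by
      rw [inv_inv, show ∀ u v : G, g⁻¹ * u * g * (g⁻¹ * v * g) = g⁻¹ * (u * v) * g from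
        fun u v => by group, (hu.comm_iff (X.R_ε X.one_mem)).2 (by simp [B_zero_right])]
      group)
    obtain rfl : x2 = 0 := by simpa [B_zero_right, hb] using e
    exact (hu.comm_iff h1).1 (comm_conj.2 ((h2.comm_iff hv).2 (by simp [B_zero_right])))
  obtain rfl : a = 0 := eq_zero_of_B (F := F) fun a' => by
    simpa [B_comm a] using key _ _ _ (X.R_p a' 0)
  obtain rfl : c = 0 := by simpa [B_zero_left] using key _ _ _ (X.R_ε X.one_mem)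
  exact mem_V.2 ⟨x, h1⟩

end EF

theorem EH.false (X : EH G F K) (hs : IsSimpleGroup G) : False := by
  have : Fact (Nat.Prime 2) := ⟨Nat.prime_two⟩
  obtain ⟨S, hS, h1⟩ := exists_isSylowIn_le X.isP_S1 X.S1_norm_U
  have hsw : X.Sw S := fun s hs hn => by
    have k : ∀ s ∈ S, s ∉ X.S1 → s ∉ 𝐍(X.V) := fun s hs hn h => hn (X.syl S hS.isP h1 s hs h)
    have hκ := X.kappa (hS.le hs) (k s hs hn)
    have hY : ∀ n ∈ 𝐍(X.U), n ∈ 𝐍(X.Y) → n ∈ 𝐍(X.V) := fun n h h' => X.alpha hκ h h'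
    have hΦ : ∀ x, x ∈ X.Φ := by_contra fun h =>
      k s hs hn (hY s (hS.le hs) (X.norm_Y_of h (hS.le hs)))
    have k2 : ∀ s ∈ S, s ∉ X.S1 → s * X.ε 1 * s⁻¹ ∈ X.Y := fun s hs hn =>
      (X.ovoid hκ hΦ hY (hS.le hs)).resolve_left fun h =>
        k s hs hn (X.mem_norm_V (hS.le hs) one_ne_zero (X.R_ε X.one_mem) h)
    exact ⟨hκ, hΦ, fun v hv => X.V_to_Y (hS.le hs) (k2 s hs hn) hv, fun v hv =>
      X.Y_to_V (hS.le hs) (k2 _ (inv_mem hs) fun h => hn (inv_mem_iff.1 h)) hv⟩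
  exact X.zc (X.syl_of h1 hsw hS) h1 hS.le hsw hs

theorem Loc.ecase (Λ : Loc G F K) (hs : IsSimpleGroup G) (hE : ∀ e ∈ Λ.R, e * e = 1)
    (h4 : 4 ≤ Nat.card Λ.R) (hC : ∀ e ∈ Λ.R, e ≠ 1 → centralizer {e} = Λ.C)
    (hN : 𝐍(Λ.C) ≤ 𝐍(Λ.A)) (hsq : ∀ c ∈ Λ.C, c * c ∈ Λ.R → c * c = 1) : False := by
  have h : Λ.EHy := ⟨hE, h4, hC, hN, hsq⟩
  obtain ⟨ω⟩ := h.exists_EO hs
  obtain ⟨X⟩ := ω.exists_EH h
  exact X.false hs

end H55.U3
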