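import Cfsg.Agent.Lib.U3S.Lev1B
import Cfsg.Agent.Lib.U3S.RedR

/-! The group `U = E P Y` when the centraliser of the component is not cyclic. -/

set_option autoImplicit false
set_option linter.unusedSectionVars false
set_option maxHeartbeats 200000

namespace H55.U3

open Subgroup H69 H25.Sz

/-- Generators and relations of `U ⟨f⟩`. -/
structure EF (G : Type*) [Group G] (F K : Type*) [Field F] [Field K] [UF F K]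
    extends Frame G F K where
  Φ : AddSubgroup F
  ε : F → G
  y : F → G
  κ : F
  f : G
  σ : RingAut K
  σF : RingAut F
  one_mem : (1 : F) ∈ Φ
  four : ∃ w ∈ Φ, w ≠ 0 ∧ w ≠ 1
  ε_mul : ∀ x ∈ Φ, ∀ x' ∈ Φ, ε x * ε x' = ε (x + x')
  ε_p : ∀ x ∈ Φ, ∀ a b, ε x * p a b = p a b * ε x
  ε_h : ∀ x ∈ Φ, ∀ k, ε x * h k = h k * ε x
  ε_r : ∀ x ∈ Φ, ε x * r = r * ε x
  ε_f : ∀ x ∈ Φ, ε x * f = f * ε x
  y_ε : ∀ b, ∀ x ∈ Φ, y b * ε x = ε x * y b * p 0 (x * b)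
  y_mul : ∀ b b', ∃ d, y b * y b' = y (b + b') * p 0 d
  y_comm : ∀ b b', y b * y b' = y b' * y b
  y_sq : ∀ b, y b * y b = p 0 (κ * b)
  y_p : ∀ b a d, y b * p a d = p a d * y b
  y_h : ∀ (k : Fˣ) b, ∃ d, h k * y b * (h k)⁻¹ = y ((k : F) ^ 2 * b) * p 0 d
  y_r : ∀ b, r * y b = y b * r
  y_zero : y 0 = 1
  σ_em : ∀ b, σ (em K b) = em K (σF b)
  σ_two : ∃ m : ℕ, σ ^ 2 ^ m = 1
  σ_fix : ∀ x ∈ Φ, σF x = x
  f_p : ∀ a b, ∃ d, f * p a b * f⁻¹ = p (σ a) d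
  f_z : ∀ b, f * p 0 b * f⁻¹ = p 0 (σF b)
  f_y : ∀ b, ∃ d, f * y b * f⁻¹ = y (σF b) * p 0 d
  f_ker : ∀ i : ℕ, σ ^ i = 1 → ∃ x ∈ Φ, f ^ i = ε x

variable {G : Type*} [Group G] {F K : Type*} [Field F] [Field K] [CharP F 2] [CharP K 2] [Big F]
  [UF F K] [Fintype F] [Fintype K]

namespace EF

open Frame

variable (X : EF G F K)

theorem ε_zero : X.ε 0 = 1 := by
  have := X.ε_mul 0 (zero_mem _) 0 (zero_mem _)
  rwa [add_zero, mul_eq_left] at this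

theorem ε_sq {x : F} (hx : x ∈ X.Φ) : X.ε x * X.ε x = 1 := by rw [X.ε_mul x hx x hx, add2, ε_zero]

theorem Cm_y (b : F) {x : F} (hx : x ∈ X.Φ) : X.Cm (X.y b) (X.ε x) (x * b) := X.y_ε b x hx

/-- Coordinates in `U` modulo `Z`. -/
def R (w : G) (x : F) (a : K) (b : F) : Prop := x ∈ X.Φ ∧ ∃ d, w = X.ε x * X.p a d * X.y b

theorem R_ε {x : F} (hx : x ∈ X.Φ) : X.R (X.ε x) x 0 0 :=
  ⟨hx, 0, by rw [p_zero, X.y_zero, mul_one, mul_one]⟩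
theorem R_p (a : K) (d : F) : X.R (X.p a d) 0 a 0 :=
  ⟨zero_mem _, d, by rw [ε_zero, X.y_zero, mul_one, one_mul]⟩
theorem R_y (b : F) : X.R (X.y b) 0 0 b := ⟨zero_mem _, 0, by rw [ε_zero, p_zero, one_mul, one_mul]⟩
theorem R_ex {x : F} (hx : x ∈ X.Φ) (a : K) (b : F) : ∃ w, X.R w x a b := ⟨_, hx, 0, rfl⟩

variable {X}

theorem R.z {w : G} {x a b} (h : X.R w x a b) (d : F) : w * X.p 0 d = X.p 0 d * w := by
  obtain ⟨hx, c, rfl⟩ := h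
  rw [mul_assoc, X.y_p, ← mul_assoc, mul_assoc (X.ε x), ← z_comm, ← mul_assoc, X.ε_p x hx]; group

theorem R.mul_z {w : G} {x a b} (h : X.R w x a b) (d : F) : X.R (w * X.p 0 d) x a b := by
  obtain ⟨hx, c, rfl⟩ := h
  exact ⟨hx, c + d, by rw [mul_assoc, X.y_p, ← mul_assoc, mul_assoc (X.ε x), p_mul_z]⟩

theorem R.mul {w w' : G} {x a b x' a' b'} (h : X.R w x a b) (h' : X.R w' x' a' b') :
    X.R (w * w') (x + x') (a + a') (b + b') := by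
  obtain ⟨hx, e, rfl⟩ := h
  obtain ⟨hx', e', rfl⟩ := h'
  obtain ⟨g, hg⟩ := X.y_mul b b'
  have : X.ε x * X.p a e * X.y b * (X.ε x' * X.p a' e' * X.y b') =
      X.ε x * X.ε x' * (X.p a e * (X.p 0 (x' * b) * X.p a' e')) * (X.y b * X.y b') := by
    calc _ = X.ε x * X.p a e * (X.y b * X.ε x') * X.p a' e' * X.y b' := by group
      _ = X.ε x * (X.p a e * X.ε x') * (X.y b * X.p 0 (x' * b) * X.p a' e') * X.y b' := by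
        rw [X.y_ε b x' hx']; group
      _ = _ := by rw [← X.ε_p x' hx', X.y_p, mul_assoc (X.p 0 _), X.y_p]; group
  rw [this, X.ε_mul x hx x' hx', z_mul_p, X.p_mul, hg, ← mul_assoc]
  exact R.mul_z ⟨add_mem hx hx', _, rfl⟩ g

theorem R.cm {w w' : G} {x a b x' a' b'} (h : X.R w x a b) (h' : X.R w' x' a' b') :
    X.Cm w w' (B F a a' + (x * b' + x' * b)) := by
  have hz := h'.z
  obtain ⟨hx, e, rfl⟩ := h
  obtain ⟨hx', e', rfl⟩ := h'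
  have k1 : X.Cm (X.ε x) (X.ε x' * X.p a' e' * X.y b') (0 + 0 + x * b') :=
    ((X.Cm_zero.2 (by rw [X.ε_mul x hx x' hx', X.ε_mul x' hx' x hx, add_comm])).mul_right
      (X.Cm_zero.2 (X.ε_p x hx ..)) (X.z_comm ..).symm).mul_right (X.Cm_y b' hx).symm (X.y_p ..)
  have k2 : X.Cm (X.p a e) (X.ε x' * X.p a' e' * X.y b') (0 + B F a a' + 0) :=
    ((X.Cm_zero.2 (X.ε_p x' hx' ..).symm).mul_right (X.Cm_p ..) (X.z_comm ..).symm).mul_right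
      (X.Cm_zero.2 (X.y_p ..).symm) (X.y_p ..)
  have k3 : X.Cm (X.y b) (X.ε x' * X.p a' e' * X.y b') (x' * b + 0 + 0) :=
    ((X.Cm_y b hx').mul_right (X.Cm_zero.2 (X.y_p ..)) (X.z_comm ..).symm).mul_right
      (X.Cm_zero.2 (X.y_comm ..)) (X.y_p ..)
  have := (k1.mul_left k2 (X.z_comm ..).symm).mul_left k3 (X.y_p ..)
  rwa [show 0 + 0 + x * b' + (0 + B F a a' + 0) + (x' * b + 0 + 0) = B F a a' + (x * b' + x' * b) by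
    ring] at this

theorem R.sq {w : G} {x a b} (h : X.R w x a b) :
    w * w = X.p 0 (nm F a + (X.κ + x) * b) := by
  obtain ⟨hx, e, rfl⟩ := h
  have h1 := (X.R_y b).cm ((X.R_ε hx).mul (X.R_p a e))
  rw [h1.sq (X.y_p ..), (X.Cm_zero.2 (X.ε_p x hx a e).symm).sq (X.z_comm ..).symm, X.ε_sq hx, p_sq,
    X.y_sq, one_mul, z_mul, z_mul, z_mul, B_zero_left]
  congr 1; ring

theorem R.inv {w : G} {x a b} (h : X.R w x a b) : X.R w⁻¹ x a b := by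
  have : w⁻¹ = w * X.p 0 (nm F a + (X.κ + x) * b) := by rw [← X.z_inv, ← h.sq]; group
  exact this ▸ h.mul_z _

theorem R.uniq {w : G} {x a b x' a' b'} (h : X.R w x a b) (h' : X.R w x' a' b') :
    x = x' ∧ a = a' ∧ b = b' := by
  refine ⟨?_, eq_of_add (eq_zero_of_B (F := F) fun e => ?_), ?_⟩
  · simpa [B_zero_right] using (h.cm (X.R_y 1)).uniq (h'.cm (X.R_y 1))
  · have := (h.cm (X.R_p e 0)).uniq (h'.cm (X.R_p e 0))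
    simp only [mul_zero, zero_mul, add_zero] at this
    rw [B_add_left, this, add2]
  · simpa [B_zero_right] using (h.cm (X.R_ε X.one_mem)).uniq (h'.cm (X.R_ε X.one_mem))

theorem R.mem_P {w : G} {a} (h : X.R w 0 a 0) : w ∈ X.P := by
  obtain ⟨-, d, rfl⟩ := h; rw [ε_zero, X.y_zero, mul_one, one_mul]; exact X.p_mem_P ..

theorem R.mem_Z {w : G} (h : X.R w 0 0 0) : w ∈ X.Z := by
  obtain ⟨-, d, rfl⟩ := h; rw [ε_zero, X.y_zero, mul_one, one_mul]; exact X.z_mem_Z _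

theorem R.eq_mul_z {w w' : G} {x a b} (h : X.R w x a b) (h' : X.R w' x a b) :
    ∃ d, w' = w * X.p 0 d := by
  obtain ⟨d, e⟩ := R.mem_Z (X := X) (by simpa [add2] using h.inv.mul h')
  exact ⟨d, by rw [← e]; group⟩

theorem R.comm_iff {w w' : G} {x a b x' a' b'} (h : X.R w x a b) (h' : X.R w' x' a' b') :
    w * w' = w' * w ↔ B F a a' + (x * b' + x' * b) = 0 :=
  ⟨fun e => (h.cm h').uniq (X.Cm_zero.2 e), fun e => X.Cm_zero.1 (e ▸ h.cm h')⟩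

theorem R.sq_iff {w : G} {x a b} (h : X.R w x a b) : w * w = 1 ↔ nm F a + (X.κ + x) * b = 0 := by
  rw [h.sq, p_eq_one, and_iff_right rfl]

theorem R.conj {w u : G} {x a b x' a' b'} (h : X.R w x a b) (hu : X.R u x' a' b') :
    X.R (u * w * u⁻¹) x a b := (hu.cm h).conj (hu.z _) ▸ h.mul_z _

theorem R.h_conj {w : G} {x a b} (h : X.R w x a b) (k : Fˣ) :
    X.R (X.h k * w * (X.h k)⁻¹) x (em K (k : F) * a) ((k : F) ^ 2 * b) := by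
  obtain ⟨hx, d, rfl⟩ := h
  obtain ⟨g, hg⟩ := X.y_h k b
  rw [← conj_mul, ← conj_mul, X.h_conj, hg, ← X.ε_h x hx, mul_inv_cancel_right, ← mul_assoc]
  exact R.mul_z ⟨hx, _, rfl⟩ g

theorem R.r_conj {w : G} {x a b} (h : X.R w x a b) : X.R (X.r * w * X.r⁻¹) x (X.k0 * a) b := by
  obtain ⟨hx, d, rfl⟩ := h
  rw [← conj_mul, ← conj_mul, X.r_conj, X.y_r, ← X.ε_r x hx, mul_inv_cancel_right,
    mul_inv_cancel_right]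
  exact ⟨hx, d, rfl⟩

theorem R.f_conj {w : G} {x a b} (h : X.R w x a b) :
    X.R (X.f * w * X.f⁻¹) x (X.σ a) (X.σF b) := by
  obtain ⟨hx, d, rfl⟩ := h
  obtain ⟨g, hg⟩ := X.f_y b
  obtain ⟨e, he⟩ := X.f_p a d
  rw [← conj_mul, ← conj_mul, he, hg, ← X.ε_f x hx, mul_inv_cancel_right, ← mul_assoc]
  exact R.mul_z ⟨hx, _, rfl⟩ g

theorem R.f_pow {w : G} {x a b} (h : X.R w x a b) (i : ℕ) :
    X.R (X.f ^ i * w * (X.f ^ i)⁻¹) x ((X.σ ^ i) a) ((X.σF ^ i) b) := by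
  induction i with
  | zero => simpa using h
  | succ i ih =>
    rw [pow_succ', pow_succ', pow_succ', show X.f * X.f ^ i * w * (X.f * X.f ^ i)⁻¹ =
      X.f * (X.f ^ i * w * (X.f ^ i)⁻¹) * X.f⁻¹ by group]
    exact ih.f_conj

variable (X)

theorem f_pow_z (i : ℕ) (b : F) : X.f ^ i * X.p 0 b * (X.f ^ i)⁻¹ = X.p 0 ((X.σF ^ i) b) := by
  induction i with
  | zero => simp
  | succ i ih =>
    rw [pow_succ', pow_succ', show X.f * X.f ^ i * X.p 0 b * (X.f * X.f ^ i)⁻¹ =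
      X.f * (X.f ^ i * X.p 0 b * (X.f ^ i)⁻¹) * X.f⁻¹ by group, ih, X.f_z]; rfl

theorem σ_pow_em (i : ℕ) (b : F) : (X.σ ^ i) (em K b) = em K ((X.σF ^ i) b) := by
  induction i with
  | zero => rfl
  | succ i ih => rw [pow_succ', pow_succ', RingAut.mul_apply, ih, X.σ_em]; rfl

/-- The subgroup of `U` cut out by an additive condition on the coordinates. -/
def sub (c : F → K → F → Prop) (h0 : c 0 0 0)
    (ha : ∀ x a b x' a' b', c x a b → c x' a' b' → c (x + x') (a + a') (b + b')) : Subgroup G where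
  carrier := {w | ∃ x a b, X.R w x a b ∧ c x a b}
  mul_mem' := by
    rintro w w' ⟨x, a, b, h, k⟩ ⟨x', a', b', h', k'⟩; exact ⟨_, _, _, h.mul h', ha _ _ _ _ _ _ k k'⟩
  one_mem' := ⟨0, 0, 0, X.p_zero ▸ X.R_p 0 0, h0⟩
  inv_mem' := by rintro w ⟨x, a, b, h, k⟩; exact ⟨x, a, b, h.inv, k⟩

/-- The groups `U`, `E P`, `W = P Y`, `V = E Z`, `Y`, and `U ⟨f⟩`. -/
def U : Subgroup G := X.sub (fun _ _ _ => True) trivial fun _ _ _ _ _ _ _ _ => trivial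
def EP : Subgroup G := X.sub (fun _ _ b => b = 0) rfl fun _ _ _ _ _ _ h k => by rw [h, k, add_zero]
def W : Subgroup G := X.sub (fun x _ _ => x = 0) rfl fun _ _ _ _ _ _ h k => by rw [h, k, add_zero]
def V : Subgroup G := X.sub (fun _ a b => a = 0 ∧ b = 0) ⟨rfl, rfl⟩
  fun _ _ _ _ _ _ h k => by rw [h.1, h.2, k.1, k.2]; exact ⟨add_zero _, add_zero _⟩
def Y : Subgroup G := X.sub (fun x a _ => x = 0 ∧ a = 0) ⟨rfl, rfl⟩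
  fun _ _ _ _ _ _ h k => by rw [h.1, h.2, k.1, k.2]; exact ⟨add_zero _, add_zero _⟩
def S1 : Subgroup G := X.U ⊔ zpowers X.f

theorem auto_lemmas : True := by
  have := @R.eq_1.{0,0,0}; have := @sub.eq_1.{0,0,0}; have := @U.eq_1.{0,0,0}
  have := @EP.eq_1.{0,0,0}; have := @W.eq_1.{0,0,0}; have := @V.eq_1.{0,0,0}
  have := @Y.eq_1.{0,0,0}; have := @S1.eq_1.{0,0,0}
  trivial

variable {X}

theorem mem_U {w : G} : w ∈ X.U ↔ ∃ x a b, X.R w x a b :=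
  ⟨fun ⟨x, a, b, h, _⟩ => ⟨x, a, b, h⟩, fun ⟨x, a, b, h⟩ => ⟨x, a, b, h, trivial⟩⟩
theorem mem_EP {w : G} : w ∈ X.EP ↔ ∃ x a, X.R w x a 0 :=
  ⟨fun ⟨x, a, _, h, k⟩ => ⟨x, a, k ▸ h⟩, fun ⟨x, a, h⟩ => ⟨x, a, 0, h, rfl⟩⟩
theorem mem_W {w : G} : w ∈ X.W ↔ ∃ a b, X.R w 0 a b :=
  ⟨fun ⟨_, a, b, h, k⟩ => ⟨a, b, k ▸ h⟩, fun ⟨a, b, h⟩ => ⟨0, a, b, h, rfl⟩⟩
theorem mem_V {w : G} : w ∈ X.V ↔ ∃ x, X.R w x 0 0 :=
  ⟨fun ⟨x, _, _, h, k1, k2⟩ => ⟨x, k1 ▸ k2 ▸ h⟩, fun ⟨x, h⟩ => ⟨x, 0, 0, h, rfl, rfl⟩⟩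
theorem mem_Y {w : G} : w ∈ X.Y ↔ ∃ b, X.R w 0 0 b :=
  ⟨fun ⟨_, _, b, h, k1, k2⟩ => ⟨b, k1 ▸ k2 ▸ h⟩, fun ⟨b, h⟩ => ⟨0, 0, b, h, rfl, rfl⟩⟩
theorem R.mem {w : G} {x a b} (h : X.R w x a b) : w ∈ X.U := mem_U.2 ⟨x, a, b, h⟩
theorem sub_le {c h0 ha} : X.sub c h0 ha ≤ X.U := fun _ ⟨_, _, _, h, _⟩ => h.mem
theorem Z_le_sub {c h0 ha} : X.Z ≤ X.sub c h0 ha := by
  rintro _ ⟨b, rfl⟩; exact ⟨0, 0, 0, X.R_p 0 b, h0⟩

variable (X)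

theorem P_le_U : X.P ≤ X.U := by rintro _ ⟨a, b, rfl⟩; exact (X.R_p a b).mem
theorem U_le : X.U ≤ X.S1 := le_sup_left
theorem f_mem : X.f ∈ X.S1 := mem_sup_right (mem_zpowers _)
theorem U_sq {w : G} (hw : w ∈ X.U) : w * w ∈ X.Z := let ⟨_, _, _, h⟩ := mem_U.1 hw; ⟨_, h.sq⟩
theorem U_z {w : G} (hw : w ∈ X.U) (d : F) : w * X.p 0 d = X.p 0 d * w :=
  let ⟨_, _, _, h⟩ := mem_U.1 hw; h.z d

theorem isP_U : IsPGroup 2 X.U := isPGroup_iff_mem.2 fun x hx =>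
  ⟨2, by rw [show 2 ^ 2 = 2 * 2 by rfl, pow_mul, pow_two, pow_two, X.Z_sq (X.U_sq hx)]⟩

/-- The order of a coordinate subgroup. -/
theorem card_sub {c h0 ha} : Nat.card (X.sub c h0 ha) =
    Nat.card {v : F × K × F // v.1 ∈ X.Φ ∧ c v.1 v.2.1 v.2.2} * Nat.card F := by
  rw [← Nat.card_prod]
  refine (Nat.card_eq_of_bijective
    (fun v : {v : F × K × F // v.1 ∈ X.Φ ∧ c v.1 v.2.1 v.2.2} × F =>
      (⟨X.ε v.1.1.1 * X.p v.1.1.2.1 v.2 * X.y v.1.1.2.2, _, _, _, ⟨v.1.2.1, v.2, rfl⟩, v.1.2.2⟩ :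
        X.sub c h0 ha))
    ⟨?_, fun ⟨_, x, a, b, ⟨hx, d, e⟩, k⟩ => ⟨(⟨(x, a, b), hx, k⟩, d), Subtype.ext e.symm⟩⟩).symm
  rintro ⟨⟨⟨x, a, b⟩, hx, k⟩, d⟩ ⟨⟨⟨x', a', b'⟩, hx', k'⟩, d'⟩ e
  have e' : X.ε x * X.p a d * X.y b = X.ε x' * X.p a' d' * X.y b' := congrArg Subtype.val e
  obtain ⟨rfl, rfl, rfl⟩ := R.uniq (X := X) ⟨hx, d, rfl⟩ ⟨hx', d', e'⟩
  rw [(X.p_eq_iff.1 (mul_left_cancel (mul_right_cancel e'))).2]

variable [Finite G]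

theorem h_norm_U (k : Fˣ) : X.h k ∈ 𝐍(X.U) :=
  mem_norm fun _ h => let ⟨_, _, _, h⟩ := mem_U.1 h; (h.h_conj k).mem
theorem r_norm_U : X.r ∈ 𝐍(X.U) := mem_norm fun _ h => let ⟨_, _, _, h⟩ := mem_U.1 h; h.r_conj.mem
theorem f_norm_U : X.f ∈ 𝐍(X.U) := mem_norm fun _ h => let ⟨_, _, _, h⟩ := mem_U.1 h; h.f_conj.mem
theorem S1_norm_U : X.S1 ≤ 𝐍(X.U) := sup_le le_normalizer (zpowers_le.2 X.f_norm_U)

theorem norm_U_le : 𝐍(X.U) ≤ 𝐍(X.Z) :=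
  X.norm_Z_of_sq (fun b => let ⟨x, hx, e⟩ := X.exists_sq_P b
    ⟨x, X.P_le_U (X.PF_le_P hx), e⟩) fun _ hx => X.U_sq hx

theorem f_two : ∃ m : ℕ, X.f ^ 2 ^ m = 1 := by
  obtain ⟨m, hm⟩ := X.σ_two
  obtain ⟨x, hx, e⟩ := X.f_ker _ hm
  exact ⟨m + 1, by rw [pow_succ, pow_mul, e, pow_two, X.ε_sq hx]⟩

theorem isP_S1 : IsPGroup 2 X.S1 :=
  isPGroup_sup_of_le_normalizer_left X.isP_U (isP_zpowers X.f_two.choose_spec)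
    (zpowers_le.2 X.f_norm_U)

theorem mem_S1 {s : G} : s ∈ X.S1 ↔ ∃ u ∈ X.U, ∃ i : ℕ, s = u * X.f ^ i := by
  rw [S1, mem_sup_of_le_normalizer_left (zpowers_le.2 X.f_norm_U)]
  refine ⟨?_, fun ⟨u, hu, i, e⟩ => ⟨u, hu, _, pow_mem (mem_zpowers _) i, e⟩⟩
  rintro ⟨u, hu, y, hy, e⟩
  obtain ⟨i, rfl⟩ := (mem_powers_iff_mem_zpowers.2 hy : y ∈ Submonoid.powers X.f)
  exact ⟨u, hu, i, e⟩

/-- The action of an element of `U ⟨f⟩`. -/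
theorem act_S1 {s : G} (hs : s ∈ X.S1) : ∃ i : ℕ, (X.σ ^ i = 1 ↔ s ∈ X.U) ∧
    (∀ w x a b, X.R w x a b → X.R (s * w * s⁻¹) x ((X.σ ^ i) a) ((X.σF ^ i) b)) ∧
    ∀ b, s * X.p 0 b * s⁻¹ = X.p 0 ((X.σF ^ i) b) := by
  obtain ⟨u, hu, i, rfl⟩ := X.mem_S1.1 hs
  obtain ⟨x', a', b', h'⟩ := mem_U.1 hu
  have k : ∀ w x a b, X.R w x a b → X.R (u * X.f ^ i * w * (u * X.f ^ i)⁻¹) x ((X.σ ^ i) a)
      ((X.σF ^ i) b) := fun w x a b h => by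
    rw [show u * X.f ^ i * w * (u * X.f ^ i)⁻¹ = u * (X.f ^ i * w * (X.f ^ i)⁻¹) * u⁻¹ by group]
    exact (h.f_pow i).conj h'
  refine ⟨i, ⟨fun e => ?_, fun e => ?_⟩, k, fun b => ?_⟩
  · obtain ⟨x, hx, e'⟩ := X.f_ker i e
    exact mul_mem hu (e' ▸ (X.R_ε hx).mem)
  · obtain ⟨x, a, b, h⟩ := mem_U.1 e
    exact RingEquiv.ext fun c => ((k _ _ _ _ (X.R_p c 0)).uniq ((X.R_p c 0).conj h)).2.1
  · rw [show u * X.f ^ i * X.p 0 b * (u * X.f ^ i)⁻¹ = u * (X.f ^ i * X.p 0 b * (X.f ^ i)⁻¹) * u⁻¹ by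
      group, f_pow_z, h'.z, mul_inv_cancel_right]

theorem S1_norm_V : X.S1 ≤ 𝐍(X.V) := fun s hs => mem_norm fun w hw => by
  obtain ⟨i, -, h, -⟩ := X.act_S1 hs
  obtain ⟨x, hw⟩ := mem_V.1 hw
  exact mem_V.2 ⟨x, by simpa using h _ _ _ _ hw⟩

/-- An element of `N(U)` mapping one element of `V ∖ Z` into `V` normalises `V`. -/
theorem mem_norm_V {n w : G} (hn : n ∈ 𝐍(X.U)) {x : F} (hx : x ≠ 0) (hw : X.R w x 0 0)
    (h : n * w * n⁻¹ ∈ X.V) : n ∈ 𝐍(X.V) := by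
  obtain ⟨x', h⟩ := mem_V.1 h
  have hx' : x' ≠ 0 := by
    rintro rfl
    obtain ⟨d, e⟩ := conj_mem_of_mem_normalizer' (X.norm_U_le hn) h.mem_Z
    rw [show n⁻¹ * (n * w * n⁻¹) * n = w by group] at e
    exact hx (hw.uniq (e ▸ X.R_p 0 d)).1
  refine mem_norm fun v hv => ?_
  obtain ⟨x1, hv⟩ := mem_V.1 hv
  obtain ⟨x2, a, b, h2⟩ := mem_U.1 (conj_mem_of_mem_normalizer hn hv.mem)
  have e1 := h.comm_iff h2 |>.1 (by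
    rw [conj_mul, conj_mul, (hw.comm_iff hv).2 (by simp [B_zero_left])])
  have e2 := h2.sq_iff.1 (by rw [conj_mul, hv.sq_iff.2 (by simp [nm_zero])]; group)
  obtain rfl : b = 0 := by simpa [B_zero_left, hx'] using e1
  obtain rfl : a = 0 := by simpa [nm_eq_zero] using e2
  exact mem_V.2 ⟨x2, h2⟩

end EF

/-- The local properties inherited from the component. -/
structure EH (G : Type*) [Group G] (F K : Type*) [Field F] [Field K] [CharP F 2] [CharP K 2] [Big F]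
    [UF F K] [Fintype F] [Fintype K] extends EF G F K where
  ne_z : ∀ g b, g * ε 1 * g⁻¹ ≠ p 0 b
  syl : ∀ Q : Subgroup G, IsPGroup 2 Q → toEF.S1 ≤ Q → ∀ x ∈ Q, x ∈ 𝐍(toEF.V) → x ∈ toEF.S1
  nY : ∀ n ∈ 𝐍(toEF.U), n ∈ 𝐍(toEF.V) → n ∈ 𝐍(toEF.Y)
  trans : ∀ n, (∀ x ∈ Φ, ∃ d, n * ε x * n⁻¹ = ε x * p 0 d) →
    ∃ μ, ∀ x ∈ Φ, n * ε x * n⁻¹ = ε x * p 0 (μ * x)
  inner : ∀ n, (∀ x ∈ Φ, n * ε x = ε x * n) → (∀ a, ∃ d, n * p a 0 * n⁻¹ = p a d) →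
    ∃ c, ∀ a d, n * p a d * n⁻¹ = p a (d + B F c a)

/-- The elements of `S` outside `U ⟨f⟩` interchange `V` and `Y`. -/
def EH.Sw (X : EH G F K) (S : Subgroup G) : Prop :=
  ∀ s ∈ S, s ∉ X.S1 → X.κ = 0 ∧ (∀ x, x ∈ X.Φ) ∧ (∀ v ∈ X.V, s * v * s⁻¹ ∈ X.Y) ∧
    ∀ v ∈ X.Y, s * v * s⁻¹ ∈ X.V

/-- The commutators in every subgroup of index at most two of `Q` generate `Z`. -/
def EF.Cov (X : EF G F K) (Q : Subgroup G) : Prop :=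
  (∀ x ∈ Q, x * x ∈ X.Z) ∧ ∀ Q0 M : Subgroup G,
    (∀ x ∈ Q, ∀ y ∈ Q, x ∉ Q0 → y ∉ Q0 → x⁻¹ * y ∈ Q0) →
    (∀ x ∈ Q, ∀ y ∈ Q, x ∈ Q0 → y ∈ Q0 → x * y * x⁻¹ * y⁻¹ ∈ M) → X.Z ≤ M

theorem EH.auto_lemmas : True := by
  have := @EH.Sw.eq_1.{0,0,0}; have := @EF.Cov.eq_1.{0,0,0}
  trivial

/-- The hypotheses on `R`. -/
structure Loc.EHy (Λ : Loc G F K) : Prop where
  hE : ∀ e ∈ Λ.R, e * e = 1
  h4 : 4 ≤ Nat.card Λ.R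
  hC : ∀ e ∈ Λ.R, e ≠ 1 → centralizer {e} = Λ.C
  hN : 𝐍(Λ.C) ≤ 𝐍(Λ.A)
  hsq : ∀ c ∈ Λ.C, c * c ∈ Λ.R → c * c = 1

/-- A second conjugate of `R` in `R Z`, with coordinates. -/
structure EO (Λ : Loc G F K) where
  Φ : AddSubgroup F
  ε : F → G
  g : G
  one_mem : (1 : F) ∈ Φ
  four : ∃ w ∈ Φ, w ≠ 0 ∧ w ≠ 1
  ε_mem : ∀ x ∈ Φ, ε x ∈ Λ.R
  ε_mul : ∀ x ∈ Φ, ∀ x' ∈ Φ, ε x * ε x' = ε (x + x')
  ε_surj : ∀ e ∈ Λ.R, ∃ x ∈ Φ, e = ε x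
  ε_inj : ∀ x ∈ Φ, ε x = 1 → x = 0
  g_norm : g ∈ 𝐍(Λ.R ⊔ Λ.P)
  g_ε : ∀ x ∈ Φ, ∃ x' ∈ Φ, g * ε x' * g⁻¹ = ε x * Λ.p 0 x

end H55.U3
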