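import Cfsg.Agent.Lib.U3S.EDef

/-! Conjugates of `Z` and of `U` in a Sylow subgroup of `N(U)`. -/

set_option autoImplicit false
set_option linter.unusedSectionVars false
set_option maxHeartbeats 200000

namespace H55.U3

open Subgroup H69 H25.Sz

variable {G : Type*} [Group G] [Finite G] {F K : Type*} [Field F] [Field K] [CharP F 2] [CharP K 2]
  [Big F] [UF F K] [Fintype F] [Fintype K]

namespace EKEY

theorem card_mul_le {U H : Subgroup G} (hH : H ≤ U) {ι : Type*} [Finite ι] (t : ι → G)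
    (ht : ∀ i, t i ∈ U) (h : ∀ i j, (t i)⁻¹ * t j ∈ H → i = j) :
    Nat.card ι * Nat.card H ≤ Nat.card U := by
  rw [← Nat.card_prod]
  refine Nat.card_le_card_of_injective
    (fun v : ι × H => (⟨t v.1 * v.2, mul_mem (ht _) (hH v.2.2)⟩ : U)) ?_
  rintro ⟨i, x⟩ ⟨j, y⟩ e
  have e' : t i * x = t j * y := congrArg Subtype.val e
  obtain rfl : i = j := h i j (by
    rw [show (t i)⁻¹ * t j = x * (y : G)⁻¹ by
      rw [inv_mul_eq_iff_eq_mul, ← mul_assoc, e', mul_inv_cancel_right]]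
    exact mul_mem x.2 (inv_mem y.2))
  rw [Subtype.ext (mul_left_cancel e')]

/-- The pull back of a subgroup along conjugation. -/
def pull (H : Subgroup G) (k : G) : Subgroup G where
  carrier := {g | k⁻¹ * g * k ∈ H}
  mul_mem' := fun {a b} ha hb => by
    show k⁻¹ * (a * b) * k ∈ H
    rw [show k⁻¹ * (a * b) * k = k⁻¹ * a * k * (k⁻¹ * b * k) by group]
    exact mul_mem ha hb
  one_mem' := by show k⁻¹ * 1 * k ∈ H; simp
  inv_mem' := fun {a} ha => by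
    show k⁻¹ * a⁻¹ * k ∈ H
    rw [show k⁻¹ * a⁻¹ * k = (k⁻¹ * a * k)⁻¹ by group]
    exact inv_mem ha

theorem mem_pull {H : Subgroup G} {k g : G} : g ∈ pull H k ↔ k⁻¹ * g * k ∈ H := Iff.rfl

theorem card_pull (H : Subgroup G) (k : G) : Nat.card (pull H k) = Nat.card H :=
  Nat.card_congr ⟨fun g => ⟨k⁻¹ * g * k, g.2⟩, fun h => ⟨k * h * k⁻¹, by
    rw [mem_pull, show k⁻¹ * (k * h * k⁻¹) * k = h by group]; exact h.2⟩,
    fun g => Subtype.ext (by show k * (k⁻¹ * g * k) * k⁻¹ = g; group),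
    fun h => Subtype.ext (by show k⁻¹ * (k * h * k⁻¹) * k = h; group)⟩

variable (X : EF G F K)

theorem inv_z {u : G} (hu : u ∈ X.U) : ∃ e, u⁻¹ = u * X.p 0 e := by
  obtain ⟨e, he⟩ := X.U_sq hu
  exact ⟨e, by rw [← X.z_inv, ← he]; group⟩

theorem comm_z {u v : G} {b : F} (h : X.Cm u v b) (hu : u ∈ X.U) (hv : v ∈ X.U) (d e : F) :
    u * X.p 0 d * (v * X.p 0 e) * (u * X.p 0 d)⁻¹ * (v * X.p 0 e)⁻¹ = X.p 0 b := by
  have h1 : u * X.p 0 d * (v * X.p 0 e) * (u * X.p 0 d)⁻¹ = v * X.p 0 e * X.p 0 b := by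
    calc _ = u * (X.p 0 d * (v * X.p 0 e) * (X.p 0 d)⁻¹) * u⁻¹ := by group
      _ = u * v * u⁻¹ * (u * X.p 0 e * u⁻¹) := by
        rw [← X.U_z (mul_mem hv (EF.Z_le_sub (X.z_mem_Z e))) d]; group
      _ = _ := by
        rw [h.conj (X.U_z hu b), X.U_z hu e, mul_inv_cancel_right, mul_assoc, mul_assoc, X.z_comm]
  rw [h1, X.U_z (mul_mem hv (EF.Z_le_sub (X.z_mem_Z e))) b, mul_inv_cancel_right]

theorem mul_z {u v w : G} {g : F} (h : u * v = w * X.p 0 g) (hv : v ∈ X.U) (d e : F) :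
    u * X.p 0 d * (v * X.p 0 e) = w * X.p 0 (g + d + e) := by
  rw [← X.z_mul, ← X.z_mul, ← mul_assoc, mul_assoc u, ← X.U_z hv, ← mul_assoc u, h]
  group

theorem R_comm {s w : G} {x a b x' a' b'} (h : X.R w x a b) (h' : X.R (s * w * s⁻¹) x' a' b') :
    X.R (s * w * s⁻¹ * w⁻¹) (x' + x) (a' + a) (b' + b) := h'.mul h.inv

theorem R_Z {w : G} {x a b} (h : X.R w x a b) (hw : w ∈ X.Z) : x = 0 ∧ a = 0 ∧ b = 0 := by
  obtain ⟨d, rfl⟩ := hw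
  exact h.uniq (X.R_p 0 d)

theorem mem_P_of_comm {w : G} (hw : w ∈ X.U) (h1 : w * X.ε 1 = X.ε 1 * w) (h2 : w * X.y 1 = X.y 1 * w) :
    w ∈ X.P := by
  obtain ⟨x, a, b, h⟩ := EF.mem_U.1 hw
  have e1 := (h.comm_iff (X.R_ε X.one_mem)).1 h1
  have e2 := (h.comm_iff (X.R_y 1)).1 h2
  obtain rfl : b = 0 := by simpa [B_zero_right] using e1
  obtain rfl : x = 0 := by simpa [B_zero_right] using e2
  exact h.mem_P

theorem comm_S1 {x y : G} (hx : x ∈ X.S1) (hy : y ∈ X.S1) : x * y * x⁻¹ * y⁻¹ ∈ X.U := by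
  obtain ⟨u, hu, i, rfl⟩ := X.mem_S1.1 hx
  obtain ⟨v, hv, j, rfl⟩ := X.mem_S1.1 hy
  have e : X.f ^ i * X.f ^ j = X.f ^ j * X.f ^ i := by rw [← pow_add, ← pow_add, add_comm]
  rw [show u * X.f ^ i * (v * X.f ^ j) * (u * X.f ^ i)⁻¹ * (v * X.f ^ j)⁻¹ =
    u * (X.f ^ i * v * (X.f ^ i)⁻¹) * (X.f ^ i * X.f ^ j * (X.f ^ i)⁻¹ * u⁻¹ * (X.f ^ j)⁻¹) * v⁻¹ by
      group, e, mul_inv_cancel_right]
  exact mul_mem (mul_mem (mul_mem hu (conj_mem_of_mem_normalizer (pow_mem X.f_norm_U i) hv))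
    (conj_mem_of_mem_normalizer (pow_mem X.f_norm_U j) (inv_mem hu))) (inv_mem hv)

theorem sq_S1 (hΦ : ∀ x, x ∈ X.Φ) {s : G} (hs : s ∈ X.S1) : s * s ∈ X.U := by
  obtain ⟨i, -, h1, -⟩ := X.act_S1 hs
  obtain ⟨j, h2, h3, -⟩ := X.act_S1 (mul_mem hs hs)
  have hF : ∀ (n : ℕ) (b : F), (X.σF ^ n) b = b := fun n b => by
    induction n with
    | zero => rfl
    | succ n ih => rw [pow_succ', RingAut.mul_apply, ih, X.σ_fix b (hΦ b)]
  refine h2.1 (RingEquiv.ext fun a => ?_)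
  have h4 := h1 _ _ _ _ (h1 _ _ _ _ (X.R_p a 0))
  rw [show s * (s * X.p a 0 * s⁻¹) * s⁻¹ = s * s * X.p a 0 * (s * s)⁻¹ by group] at h4
  rw [((h3 _ _ _ _ (X.R_p a 0)).uniq h4).2.1]
  rcases aut_fixF (X.σ ^ i) (fun b => by rw [X.σ_pow_em, hF]) with h | h
  · rw [h, h]; rfl
  · rw [h, h, cj_cj]; rfl

end EKEY

open EKEY

namespace EF

variable (X : EF G F K)

theorem cov_K {Q : Subgroup G} (hsq : ∀ x ∈ Q, x * x ∈ X.Z) (x : K → G) (hx : ∀ a, x a ∈ Q)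
    (hU : ∀ a, x a ∈ X.U) (hZ : X.Z ≤ Q) (hmul : ∀ a a', ∃ d, x a * x a' = x (a + a') * X.p 0 d)
    (hcm : ∀ a a', X.Cm (x a) (x a') (B F a a')) : X.Cov Q := by
  refine ⟨hsq, fun Q0 M h1 h2 => ?_⟩
  let S : AddSubgroup K :=
    { carrier := {a | ∃ d, x a * X.p 0 d ∈ Q0}
      add_mem' := by
        rintro a a' ⟨d, h⟩ ⟨e, h'⟩
        obtain ⟨g, hg⟩ := hmul a a'
        exact ⟨_, mul_z X hg (hU a') d e ▸ mul_mem h h'⟩
      zero_mem' := by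
        obtain ⟨g, hg⟩ := hmul 0 0
        rw [add_zero] at hg
        exact ⟨g, by rw [mul_left_cancel hg, X.toFrame.z_sq g]; exact Q0.one_mem⟩
      neg_mem' := fun {a} h => by rwa [CharTwo.neg_eq] }
  have hS : ∀ a a', a ∉ S → a' ∉ S → a + a' ∈ S := fun a a' ha ha' => by
    have h := h1 _ (hx a) _ (hx a') (fun h => ha ⟨0, by rwa [X.p_zero, mul_one]⟩)
      (fun h => ha' ⟨0, by rwa [X.p_zero, mul_one]⟩)
    obtain ⟨e, he⟩ := inv_z X (hU a)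
    obtain ⟨g, hg⟩ := hmul a a'
    have := mul_z X hg (hU a') e 0
    rw [X.p_zero, mul_one, ← he] at this
    exact ⟨_, this ▸ h⟩
  have hc : Nat.card K ≤ 2 * Nat.card S := by
    have := card_le_two_mul (G := Multiplicative K) (Q := ⊤) (Q0 := S.toSubgroup)
      (fun a _ a' _ ha ha' => by
        have := hS (Multiplicative.toAdd a) (Multiplicative.toAdd a') ha ha'
        rw [← CharTwo.neg_eq (Multiplicative.toAdd a)] at this
        exact this)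
    rwa [top_inf_eq, card_top] at this
  rintro _ ⟨b, rfl⟩
  obtain ⟨a, ⟨d, ha⟩, c, ⟨e, hc⟩, rfl⟩ := B_cover S hc b
  rw [← comm_z X (hcm a c) (hU a) (hU c) d e]
  exact h2 _ (mul_mem (hx a) (hZ (X.z_mem_Z d))) _ (mul_mem (hx c) (hZ (X.z_mem_Z e))) ha hc

theorem cov_Φ {Q : Subgroup G} (hsq : ∀ x ∈ Q, x * x ∈ X.Z) (x : F → F → G)
    (hx : ∀ l ∈ X.Φ, ∀ b, x l b ∈ Q) (hU : ∀ l ∈ X.Φ, ∀ b, x l b ∈ X.U) (hZ : X.Z ≤ Q)
    (hmul : ∀ l ∈ X.Φ, ∀ l' ∈ X.Φ, ∀ b b', ∃ d, x l b * x l' b' = x (l + l') (b + b') * X.p 0 d)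
    (hcm : ∀ l ∈ X.Φ, ∀ l' ∈ X.Φ, ∀ b b', X.Cm (x l b) (x l' b') (l * b' + l' * b)) : X.Cov Q := by
  refine ⟨hsq, fun Q0 M h1 h2 => ?_⟩
  let S : F → F → Prop := fun l b => ∃ d, x l b * X.p 0 d ∈ Q0
  have hS : ∀ l ∈ X.Φ, ∀ l' ∈ X.Φ, ∀ b b', ¬ S l b → ¬ S l' b' → S (l + l') (b + b') := by
    intro l hl l' hl' b b' ha ha'
    have h := h1 _ (hx l hl b) _ (hx l' hl' b') (fun h => ha ⟨0, by rwa [X.p_zero, mul_one]⟩)
      (fun h => ha' ⟨0, by rwa [X.p_zero, mul_one]⟩)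
    obtain ⟨e, he⟩ := inv_z X (hU l hl b)
    obtain ⟨g, hg⟩ := hmul l hl l' hl' b b'
    have := mul_z X hg (hU l' hl' b') e 0
    rw [X.p_zero, mul_one, ← he] at this
    exact ⟨_, this ▸ h⟩
  have hM : ∀ l ∈ X.Φ, ∀ b' b, S l b' → S 0 b → X.p 0 (l * b) ∈ M := by
    rintro l hl b' b ⟨d, ha⟩ ⟨e, hc⟩
    have h3 := hcm l hl 0 (zero_mem _) b' b
    rw [zero_mul, add_zero] at h3
    rw [← comm_z X h3 (hU l hl b') (hU 0 (zero_mem _) b) d e]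
    exact h2 _ (mul_mem (hx l hl b') (hZ (X.z_mem_Z d))) _
      (mul_mem (hx 0 (zero_mem _) b) (hZ (X.z_mem_Z e))) ha hc
  obtain ⟨w, hw, w0, w1⟩ := X.four
  have w2 : 1 + w ≠ 0 := by rw [add_comm]; exact add_one_ne_zero w1
  have hw2 : 1 + w ∈ X.Φ := add_mem X.one_mem hw
  rintro _ ⟨d, rfl⟩
  have fin : ∀ l : F, l ≠ 0 → (∀ b, X.p 0 (l * b) ∈ M) → X.p 0 d ∈ M := fun l hl h => by
    have := h (d / l)
    rwa [mul_div_cancel₀ _ hl] at this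
  by_cases hall : ∀ b, S 0 b
  · by_cases a1 : S 1 0
    · exact fin 1 one_ne_zero fun b => hM 1 X.one_mem 0 b a1 (hall b)
    by_cases a2 : S w 0
    · exact fin w w0 fun b => hM w hw 0 b a2 (hall b)
    exact fin _ w2 fun b => hM _ hw2 _ b (hS 1 X.one_mem w hw 0 0 a1 a2) (hall b)
  obtain ⟨b0, hb0⟩ := not_forall.1 hall
  have h4 : ∀ l ∈ X.Φ, ∀ b, S 0 b → X.p 0 (l * b) ∈ M := fun l hl b hb => by
    by_cases a1 : S l 0
    · exact hM l hl 0 b a1 hb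
    · have := hS l hl 0 (zero_mem _) 0 b0 a1 hb0
      rw [add_zero] at this
      exact hM l hl _ b this hb
  by_contra hd
  have h5 : ∀ l ∈ X.Φ, l ≠ 0 → X.p 0 (l * b0) ∉ M := fun l hl l0 h => hd (fin l l0 fun b => by
    by_cases hb : S 0 b
    · exact h4 l hl b hb
    · have := hS 0 (zero_mem _) 0 (zero_mem _) b b0 hb hb0
      rw [add_zero] at this
      have h6 := mul_mem (h4 l hl _ this) h
      rwa [X.z_mul, mul_add, add_assoc, add2, add_zero] at h6)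
  have h7 : ¬ S 0 (w * b0) := fun h => h5 w hw w0 (by simpa using h4 1 X.one_mem _ h)
  have h8 := hS 0 (zero_mem _) 0 (zero_mem _) b0 (w * b0) hb0 h7
  rw [add_zero] at h8
  exact h5 _ hw2 w2 (by simpa [add_mul] using h4 1 X.one_mem _ h8)

/-- An element of `U ⟨f⟩` outside `U` with square in `U`. -/
theorem out {s : G} (hs : s ∈ X.S1) (hn : s ∉ X.U) (h2 : s * s ∈ X.U) :
    (∀ w x a b, X.R w x a b → X.R (s * w * s⁻¹) x (cj F a) b) ∧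
      (∀ b, s * X.p 0 b = X.p 0 b * s) ∧ ∀ s' ∈ X.S1, s' ∉ X.U → s' * s' ∈ X.U → s⁻¹ * s' ∈ X.U := by
  have key : ∀ s ∈ X.S1, s ∉ X.U → s * s ∈ X.U →
      (∀ w x a b, X.R w x a b → X.R (s * w * s⁻¹) x (cj F a) b) ∧
      (∀ b, s * X.p 0 b = X.p 0 b * s) := by
    intro s hs hn h2
    obtain ⟨i, k1, k2, k3⟩ := X.act_S1 hs
    obtain ⟨x', a', b', h'⟩ := mem_U.1 h2
    have e : ∀ a, (X.σ ^ i) a = cj F a := by
      rcases aut_invol F (X.σ ^ i) (fun a => by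
        have h4 := k2 _ _ _ _ (k2 _ _ _ _ (X.R_p a 0))
        rw [show s * (s * X.p a 0 * s⁻¹) * s⁻¹ = s * s * X.p a 0 * (s * s)⁻¹ by group] at h4
        exact (h4.uniq ((X.R_p a 0).conj h')).2.1) with h | h
      · exact absurd (k1.1 (RingEquiv.ext h)) hn
      · exact h
    have e' : ∀ b, (X.σF ^ i) b = b := fun b => em_inj (K := K) (by rw [← X.σ_pow_em, e, cj_em])
    exact ⟨fun w x a b h => by simpa only [e, e'] using k2 w x a b h,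
      fun b => by rw [← mul_inv_eq_iff_eq_mul, k3, e']⟩
  refine ⟨(key s hs hn h2).1, (key s hs hn h2).2, fun s' hs' hn' h2' => ?_⟩
  obtain ⟨j, k1, k2, -⟩ := X.act_S1 (mul_mem (inv_mem hs) hs')
  refine k1.1 (RingEquiv.ext fun a => ?_)
  have h3 := (key s hs hn h2).1 _ _ _ _ (k2 _ _ _ _ (X.R_p a 0))
  rw [show s * (s⁻¹ * s' * X.p a 0 * (s⁻¹ * s')⁻¹) * s⁻¹ = s' * X.p a 0 * s'⁻¹ by group] at h3
  exact cj_inj (h3.uniq ((key s' hs' hn' h2').1 _ _ _ _ (X.R_p a 0))).2.1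

end EF

namespace EH

variable (X : EH G F K) {S : Subgroup G} (h2 : IsPGroup 2 S) (h1 : X.S1 ≤ S) (hN : S ≤ 𝐍(X.U))
  (hsw : X.Sw S)
include h2 h1 hN hsw

theorem idx : ∀ x ∈ S, ∀ y ∈ S, x ∉ X.S1 → y ∉ X.S1 → x⁻¹ * y ∈ X.S1 := by
  intro x hx y hy nx ny
  refine X.syl S h2 h1 _ (mul_mem (inv_mem hx) hy) (mem_norm fun v hv => ?_)
  rw [show x⁻¹ * y * v * (x⁻¹ * y)⁻¹ = x⁻¹ * (y * v * y⁻¹) * x⁻¹⁻¹ by group]
  exact (hsw _ (inv_mem hx) (fun h => nx (inv_mem_iff.1 h))).2.2.2 _ ((hsw y hy ny).2.2.1 v hv)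

theorem comm_U : ∀ x ∈ S, ∀ y ∈ S, x * y * x⁻¹ * y⁻¹ ∈ X.U := by
  have c1 : ∀ x ∈ X.S1, ∀ y ∈ S, x * y * x⁻¹ * y⁻¹ ∈ X.U := by
    intro x hx y hy
    by_cases ny : y ∈ X.S1
    · exact comm_S1 X.toEF hx ny
    rw [show x * y * x⁻¹ * y⁻¹ = x⁻¹⁻¹ * (y * x⁻¹ * y⁻¹) by group]
    by_cases nx : x ∈ X.U
    · exact mul_mem (inv_mem (inv_mem nx)) (conj_mem_of_mem_normalizer (hN hy) (inv_mem nx))
    have hΦ := (hsw y hy ny).2.1
    have m : y * x⁻¹ * y⁻¹ ∈ X.S1 := by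
      have := X.idx h2 h1 hN hsw _ (mul_mem (h1 hx) (inv_mem hy)) _ (inv_mem hy)
        (fun h => ny (inv_mem_iff.1 ((mul_mem_cancel_left hx).1 h))) (fun h => ny (inv_mem_iff.1 h))
      rwa [mul_inv_rev, inv_inv] at this
    refine (X.out (inv_mem hx) (fun h => nx (inv_mem_iff.1 h)) (sq_S1 X.toEF hΦ (inv_mem hx))).2.2 _ m
      (fun h => nx ?_) (sq_S1 X.toEF hΦ m)
    have := conj_mem_of_mem_normalizer' (hN hy) h
    rwa [show y⁻¹ * (y * x⁻¹ * y⁻¹) * y = x⁻¹ by group, inv_mem_iff] at this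
  intro x hx y hy
  by_cases nx : x ∈ X.S1
  · exact c1 x nx y hy
  by_cases ny : y ∈ X.S1
  · rw [← inv_mem_iff, show (x * y * x⁻¹ * y⁻¹)⁻¹ = y * x * y⁻¹ * x⁻¹ by group]
    exact c1 y ny x hx
  have := conj_mem_of_mem_normalizer (hN hx) (inv_mem (c1 _ (X.idx h2 h1 hN hsw x hx y hy nx ny) x hx))
  rwa [show x * (x⁻¹ * y * x * (x⁻¹ * y)⁻¹ * x⁻¹)⁻¹ * x⁻¹ = x * y * x⁻¹ * y⁻¹ by group] at this

theorem key {Q : Subgroup G} {k : G} (hQ : X.Cov Q) (hk : ∀ x ∈ Q, k⁻¹ * x * k ∈ S) :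
    k ∈ 𝐍(X.Z) := by
  have cm : ∀ x y : G, k⁻¹ * (x * y * x⁻¹ * y⁻¹) * k =
      k⁻¹ * x * k * (k⁻¹ * y * k) * (k⁻¹ * x * k)⁻¹ * (k⁻¹ * y * k)⁻¹ := fun x y => by group
  have a1 : X.Z ≤ pull X.U k := hQ.2 ⊤ _ (fun _ _ _ _ _ _ => mem_top _) fun x hx y hy _ _ => by
    rw [mem_pull, cm]; exact X.comm_U h2 h1 hN hsw _ (hk x hx) _ (hk y hy)
  have sq : ∀ x ∈ Q, k⁻¹ * x * k * (k⁻¹ * x * k) ∈ X.U := fun x hx => by
    rw [show k⁻¹ * x * k * (k⁻¹ * x * k) = k⁻¹ * (x * x) * k by group]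
    exact a1 (hQ.1 x hx)
  have c1 : ∀ x ∈ Q, ∀ y ∈ Q, k⁻¹ * x * k ∈ X.S1 → k⁻¹ * y * k ∈ X.U →
      k⁻¹ * (x * y * x⁻¹ * y⁻¹) * k ∈ X.Z := by
    intro x hx y hy mx my
    have c2 : k⁻¹ * (x * y * x⁻¹ * y⁻¹) * k * (k⁻¹ * (x * y * x⁻¹ * y⁻¹) * k) = 1 := by
      rw [show k⁻¹ * (x * y * x⁻¹ * y⁻¹) * k * (k⁻¹ * (x * y * x⁻¹ * y⁻¹) * k) =
        k⁻¹ * (x * y * x⁻¹ * y⁻¹ * (x * y * x⁻¹ * y⁻¹)) * k by group,
        X.Z_sq (comm_of_sq hQ.1 hx hy)]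
      group
    obtain ⟨l, a, b, h⟩ := EF.mem_U.1 my
    refine X.mem_Z_of_sq ?_ c2
    rw [cm]
    by_cases nx : k⁻¹ * x * k ∈ X.U
    · obtain ⟨l', a', b', h'⟩ := EF.mem_U.1 nx
      have := R_comm X.toEF h (h.conj h')
      rw [add2, add2 b] at this
      exact this.mem_P
    · have := R_comm X.toEF h ((X.out mx nx (sq x hx)).1 _ _ _ _ h)
      rw [add2, add2 b] at this
      exact this.mem_P
  have a2 : X.Z ≤ pull X.Z k := hQ.2 (pull X.S1 k) _ (fun x hx y hy nx ny => by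
      rw [mem_pull, show k⁻¹ * (x⁻¹ * y) * k = (k⁻¹ * x * k)⁻¹ * (k⁻¹ * y * k) by group]
      exact X.idx h2 h1 hN hsw _ (hk x hx) _ (hk y hy) nx ny) fun x hx y hy mx my => by
    rw [mem_pull] at mx my ⊢
    by_cases ny : k⁻¹ * y * k ∈ X.U
    · exact c1 x hx y hy mx ny
    by_cases nx : k⁻¹ * x * k ∈ X.U
    · rw [← inv_mem_iff, show (k⁻¹ * (x * y * x⁻¹ * y⁻¹) * k)⁻¹ = k⁻¹ * (y * x * y⁻¹ * x⁻¹) * k by group]
      exact c1 y hy x hx my nx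
    have h3 := (X.out mx nx (sq x hx)).2.2 _ my ny (sq y hy)
    rw [show (k⁻¹ * x * k)⁻¹ * (k⁻¹ * y * k) = k⁻¹ * (x⁻¹ * y) * k by group] at h3
    have h4 := conj_mem_of_mem_normalizer (X.norm_U_le (hN (hk x hx)))
      (c1 x hx _ (mul_mem (inv_mem hx) hy) mx h3)
    rwa [show k⁻¹ * x * k * (k⁻¹ * (x * (x⁻¹ * y) * x⁻¹ * (x⁻¹ * y)⁻¹) * k) * (k⁻¹ * x * k)⁻¹ =
      k⁻¹ * (x * y * x⁻¹ * y⁻¹) * k by group] at h4
  exact inv_mem_iff.1 (mem_norm fun a ha => by rw [inv_inv]; exact a2 ha)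

/-- The action of an element that interchanges `V` and `Y` and has its square in `U`. -/
theorem swap {s : G} (hs : s ∈ S) (hn : s ∉ X.S1) (hss : s * s ∈ X.U) :
    (∀ b, s * X.p 0 b = X.p 0 b * s) ∧ ∃ γ : F, γ ≠ 0 ∧ ∃ l : K, nm F l = 1 ∧
      ((∀ w x a b, X.R w x a b → X.R (s * w * s⁻¹) (b / γ) a (γ * x)) ∨
        ∀ w x a b, X.R w x a b → X.R (s * w * s⁻¹) (b / γ) (l * cj F a) (γ * x)) ∧ s ∈ 𝐍(X.P) := by
  obtain ⟨-, hΦ, hV, hY⟩ := hsw s hs hn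
  obtain ⟨-, -, hV', hY'⟩ := hsw _ (inv_mem hs) (fun h => hn (inv_mem_iff.1 h))
  have hP : s ∈ 𝐍(X.P) := mem_norm (by
    rintro _ ⟨a, d, rfl⟩
    have c : ∀ v, X.p a d * (s⁻¹ * v * s⁻¹⁻¹) = s⁻¹ * v * s⁻¹⁻¹ * X.p a d →
        s * X.p a d * s⁻¹ * v = v * (s * X.p a d * s⁻¹) := fun v h => by
      calc _ = s * (X.p a d * (s⁻¹ * v * s⁻¹⁻¹)) * s⁻¹ := by group
        _ = _ := by rw [h]; group
    refine mem_P_of_comm X.toEF (conj_mem_of_mem_normalizer (hN hs) (X.R_p a d).mem) (c _ ?_) (c _ ?_)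
    · obtain ⟨b, h⟩ := EF.mem_Y.1 (hV' _ (EF.mem_V.2 ⟨1, X.R_ε X.one_mem⟩))
      exact ((X.R_p a d).comm_iff h).2 (by simp [B_zero_right])
    · obtain ⟨b, h⟩ := EF.mem_V.1 (hY' _ (EF.mem_Y.2 ⟨1, X.R_y 1⟩))
      exact ((X.R_p a d).comm_iff h).2 (by simp [B_zero_right]))
  obtain ⟨l, -, τ, τF, k1, k2, k3⟩ := X.aut_P hP
  obtain ⟨x', a', b', h'⟩ := EF.mem_U.1 hss
  have e1 : ∀ a, l * τ (l * τ a) = a := fun a => by
    obtain ⟨d, e⟩ := k2 a 0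
    obtain ⟨d', e'⟩ := k2 (l * τ a) d
    have h3 := (X.R_p a 0).conj h'
    rw [show s * s * X.p a 0 * (s * s)⁻¹ = s * (s * X.p a 0 * s⁻¹) * s⁻¹ by group, e, e'] at h3
    exact ((X.R_p _ _).uniq h3).2.1
  have e2 : l * τ l = 1 := by simpa using e1 1
  have e3 := aut_invol F τ fun a => by
    have := e1 a
    rwa [map_mul, ← mul_assoc, e2, one_mul] at this
  have e4 : ∀ b, τF b = b := fun b => em_inj (K := K) (by
    rw [← k1]; rcases e3 with h | h <;> rw [h]; exact cj_em b)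
  have e5 : nm F l = 1 ∧ ((∀ a, l * τ a = a) ∨ ∀ a, l * τ a = l * cj F a) := by
    rcases e3 with h | h
    · obtain rfl : l = 1 := sq_inj (by rw [sq, one_pow, ← e2, h])
      exact ⟨nm_one, Or.inl fun a => by rw [h, one_mul]⟩
    · exact ⟨em_inj (K := K) (by rw [em_nm, ← h, e2, map_one]), Or.inr fun a => by rw [h]⟩
  have hz : ∀ b, s * X.p 0 b * s⁻¹ = X.p 0 b := fun b => by rw [k3, e5.1, e4, one_mul]
  choose φ hφ using fun x : F => EF.mem_Y.1 (hV _ (EF.mem_V.2 ⟨x, X.R_ε (hΦ x)⟩))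
  choose ψ hψ using fun b : F => EF.mem_V.1 (hY _ (EF.mem_Y.2 ⟨b, X.R_y b⟩))
  have e6 : ∀ x b, ψ b * φ x = x * b := fun x b => by
    have := ((hψ b).cm (hφ x)).uniq ((X.Cm_y b (hΦ x)).conj_by (hz _))
    simpa [B_zero_right] using this
  have g0 : φ 1 ≠ 0 := fun h => by simpa [h] using e6 1 1
  have e7 : ∀ b, ψ b = b / φ 1 := fun b => by rw [eq_div_iff g0, e6, one_mul]
  have e8 : ∀ x, φ x = φ 1 * x := fun x => by
    have := e6 x 1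
    rw [e7, mul_one, div_mul_eq_mul_div, one_mul, div_eq_iff g0] at this
    rw [this, mul_comm]
  have e9 : ∀ w x a b, X.R w x a b → X.R (s * w * s⁻¹) (b / φ 1) (l * τ a) (φ 1 * x) := by
    rintro _ x a b ⟨hx, d, rfl⟩
    obtain ⟨d', e⟩ := k2 a d
    have := ((hφ x).mul (e ▸ X.R_p (l * τ a) d')).mul (hψ b)
    rw [conj_mul, conj_mul, e7, e8 x] at this
    simpa using this
  refine ⟨fun b => by rw [← mul_inv_eq_iff_eq_mul, hz], φ 1, g0, l, e5.1, ?_, hP⟩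
  rcases e5.2 with h | h
  · exact Or.inl fun w x a b hw => h a ▸ e9 w x a b hw
  · exact Or.inr fun w x a b hw => h a ▸ e9 w x a b hw

omit h2 hN in
theorem syl_of (hS : IsSylowIn 2 S 𝐍(X.U)) : IsSylowIn 2 S ⊤ := by
  have h2 := hS.isP
  have hN := hS.le
  have hUS : X.U ≤ S := X.U_le.trans h1
  refine isSylowIn_of_normalizer le_top (hS.mono (le_inf le_top le_normalizer) fun n hn => ?_)
  replace hn := hn.2
  have hcov : X.Cov X.P := X.cov_K (fun x hx => X.P_sq hx) (fun a => X.p a 0) (fun a => X.p_mem_P a 0)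
    (fun a => (X.R_p a 0).mem) X.Z_le_P (fun a a' => ⟨_, by rw [X.p_mul, X.p_split]⟩)
    fun a a' => X.Cm_p ..
  have hnZ : n ∈ 𝐍(X.Z) := X.key h2 h1 hN hsw hcov fun x hx =>
    conj_mem_of_mem_normalizer' hn (hUS (X.P_le_U hx))
  set U' := pull X.U n with hU'
  have hS' : U' ≤ S := fun x hx => by
    have := conj_mem_of_mem_normalizer hn (hUS hx)
    rwa [show n * (n⁻¹ * x * n) * n⁻¹ = x by group] at this
  have sq : ∀ x ∈ U', x * x ∈ X.Z := fun x hx => by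
    have := conj_mem_of_mem_normalizer hnZ (X.U_sq hx)
    rwa [show n * (n⁻¹ * x * n * (n⁻¹ * x * n)) * n⁻¹ = x * x by group] at this
  have sq' : ∀ x ∈ U', x * x ∈ X.U := fun x hx => EF.Z_le_sub (sq x hx)
  have hc : Nat.card U' = Nat.card X.U := card_pull _ _
  have q4 := four_le F
  have pos : 0 < Nat.card (U' ⊓ X.U : Subgroup G) := Nat.card_pos
  have hA : ∀ s ∈ U', s ∈ X.S1 → s ∉ X.U → ∀ w x a b, w ∈ U' → X.R w x a b → tr F a = 0 := by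
    intro s hs m nm w x a b hw h
    have := (R_Z X.toEF (R_comm X.toEF h ((X.out m nm (sq' s hs)).1 _ _ _ _ h))
      (comm_of_sq sq hs hw)).2.1
    exact em_eq_zero.1 (by rw [em_tr, add_comm]; exact this)
  have hB : ∀ s ∈ U', s ∉ X.S1 → ∀ w a b, w ∈ U' → X.R w 0 a b → b = 0 := by
    intro s hs nm w a b hw h
    obtain ⟨-, γ, -, l, -, k | k, -⟩ := X.swap h2 h1 hN hsw (hS' hs) nm (sq' s hs) <;>
      simpa using (R_Z X.toEF (R_comm X.toEF h (k _ _ _ _ h)) (comm_of_sq sq hs hw)).2.2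
  have i1 : Nat.card U' ≤ 2 * Nat.card (U' ⊓ X.S1 : Subgroup G) :=
    card_le_two_mul fun x hx y hy => X.idx h2 h1 hN hsw x (hS' hx) y (hS' hy)
  have i2 : Nat.card (U' ⊓ X.S1 : Subgroup G) ≤ 2 * Nat.card (U' ⊓ X.U : Subgroup G) := by
    have := card_le_two_mul (Q := U' ⊓ X.S1) (Q0 := X.U) fun x hx y hy nx ny =>
      (X.out hx.2 nx (sq' x hx.1)).2.2 y hy.2 ny (sq' y hy.1)
    rwa [inf_assoc, inf_eq_right.2 X.U_le] at this
  have t1 : ∀ c c' : F, tr F (em K c * om F K + em K c' * om F K) = 0 → c = c' := fun c c' h =>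
    eq_of_add (by rwa [tr_add, tr_surj, tr_surj] at h)
  have fin : U' ≤ X.U := by
    by_cases b1 : U' ≤ X.S1
    · intro s hs
      by_contra ns
      have := card_mul_le (U := X.U) (H := U' ⊓ X.U) inf_le_right (fun c : F => X.p (em K c * om F K) 0)
        (fun c => (X.R_p _ _).mem) fun c c' h =>
          t1 c c' (hA s hs (b1 hs) ns _ _ _ _ h.1 ((X.R_p _ _).inv.mul (X.R_p _ _)))
      rw [inf_eq_left.2 b1] at i2
      nlinarith
    obtain ⟨s, hs, ns⟩ := SetLike.not_le_iff_exists.1 b1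
    exfalso
    by_cases b2 : U' ⊓ X.S1 ≤ X.U
    · have := card_mul_le (U := X.U) (H := U' ⊓ X.U) inf_le_right (fun c : F => X.y c)
        (fun c => (X.R_y _).mem) fun c c' h => eq_of_add (hB s hs ns _ _ _ h.1 (by
          simpa using (X.R_y c).inv.mul (X.R_y c')))
      have i3 : Nat.card (U' ⊓ X.S1 : Subgroup G) ≤ Nat.card (U' ⊓ X.U : Subgroup G) :=
        card_le_of_le (le_inf inf_le_left b2)
      nlinarith
    obtain ⟨s', hs', ns'⟩ := SetLike.not_le_iff_exists.1 b2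
    have := card_mul_le (U := X.U) (H := U' ⊓ X.U) inf_le_right
      (fun c : F × F => X.p (em K c.1 * om F K) 0 * X.y c.2)
      (fun c => ((X.R_p _ _).mul (X.R_y _)).mem) fun c c' h => by
        have r := ((X.R_p (em K c.1 * om F K) 0).mul (X.R_y c.2)).inv.mul
          ((X.R_p (em K c'.1 * om F K) 0).mul (X.R_y c'.2))
        simp only [add_zero, zero_add] at r
        exact Prod.ext (t1 _ _ (hA s' hs'.1 hs'.2 ns' _ _ _ _ h.1 r))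
          (eq_of_add (hB s hs ns _ _ _ h.1 r))
    rw [Nat.card_prod] at this
    have q16 : 16 ≤ Nat.card F * Nat.card F := by nlinarith
    nlinarith
  exact mem_norm fun a ha => fin (by
    rw [hU', mem_pull, show n⁻¹ * (n * a * n⁻¹) * n = a by group]; exact ha)

end EH

end H55.U3
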